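import Cfsg.Agent.ChevM.Sig

set_option autoImplicit false
set_option linter.unusedSectionVars false
set_option linter.unusedVariables false

/-!
# Centralisers of the rational points of unipotent radicals (helper19)
-/

namespace Cfsg.Agent.ChevM

open Cfsg.Lie Matrix Subgroup Cfsg.Agent.ChevU Cfsg.Agent.Chev

variable {D : ChevalleyDatum} {K : Type*} [Field K] (R : RootFacts D) (G : Chev.Good D) (E : ChevGrp.DData D)

/-! ### The Weyl group acts linearly -/

theorem vec_lin {u : Equiv.Perm (Fin D.nroots)} (hu : u ∈ E.rp.wsys.W) : ∀ (s : Fin D.nroots) (j : ℕ),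
    R.vec (u s : Fin D.nroots) j = ∑ k : Fin D.rank, R.vec s k * R.vec (u (E.rp.wsys.p k) : Fin D.nroots) j := by
  refine E.rp.wsys.W_induction (Q := fun u => ∀ (s : Fin D.nroots) (j : ℕ),
    R.vec (u s : Fin D.nroots) j = ∑ k : Fin D.rank, R.vec s k * R.vec (u (E.rp.wsys.p k) : Fin D.nroots) j) ?_ ?_ hu
  · intro s j
    simp only [Equiv.Perm.coe_one, id]
    have hp : ∀ k : Fin D.rank, R.vec (E.rp.wsys.p k : Fin D.nroots) j = if j = k then 1 else 0 := by
      intro k
      have h1 : ((E.rp.wsys.p k : Fin D.nroots) : ℕ) = D.simple k := E.hp k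
      rw [h1, R.vec_simple k k.2]
    simp only [hp]
    by_cases hj : j < D.rank
    · rw [Finset.sum_eq_single (⟨j, hj⟩ : Fin D.rank)]
      · simp
      · intro b _ hb
        have : j ≠ b := fun h => hb (Fin.ext h.symm)
        simp [this]
      · intro h; exact absurd (Finset.mem_univ _) h
    · rw [R.vec_out _ _ (not_lt.mp hj)]
      symm
      apply Finset.sum_eq_zero
      intro b _
      have : j ≠ b := by have := b.2; omega
      simp [this]
  · intro i u hu ih s j
    have hw : ∀ t : Fin D.nroots, R.vec ((E.rp.wsys.w i * u) t : Fin D.nroots) j = R.vec (u t : Fin D.nroots) j -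
        if j = i then ∑ m ∈ Finset.range D.rank, R.vec (u t : Fin D.nroots) m * D.cartan i (D.simple m) else 0 := by
      intro t
      have h1 : (((E.rp.wsys.w i * u) t : Fin D.nroots) : ℕ) = D.reflectRoot i (u t : Fin D.nroots) := E.hw i (u t)
      rw [h1, R.vec_refl i i.2 _ (u t).2]
      by_cases hji : j = i
      · rw [if_pos hji, if_pos hji, R.cartan_eq i i.2 _ (u t).2]
      · rw [if_neg hji, if_neg hji]
    simp only [hw]
    rw [ih s j]
    by_cases hji : j = i
    · simp only [if_pos hji, mul_sub, Finset.sum_sub_distrib]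
      congr 1
      have h2 : ∀ m ∈ Finset.range D.rank, R.vec (u s : Fin D.nroots) m * D.cartan i (D.simple m) =
          ∑ k : Fin D.rank, R.vec s k * (R.vec (u (E.rp.wsys.p k) : Fin D.nroots) m * D.cartan i (D.simple m)) := by
        intro m _
        rw [ih s m, Finset.sum_mul]
        exact Finset.sum_congr rfl fun k _ => by ring
      rw [Finset.sum_congr rfl h2, Finset.sum_comm]
      exact Finset.sum_congr rfl fun k _ => by rw [Finset.mul_sum]
    · simp only [if_neg hji, sub_zero]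

include R in
theorem act_add {u : Equiv.Perm (Fin D.nroots)} (hu : u ∈ E.rp.wsys.W) {r s t : Fin D.nroots} {a b : ℤ}
    (h : ∀ j, R.vec t j = a * R.vec r j + b * R.vec s j) (j : ℕ) :
    R.vec (u t : Fin D.nroots) j = a * R.vec (u r : Fin D.nroots) j + b * R.vec (u s : Fin D.nroots) j := by
  rw [vec_lin R E hu t j, vec_lin R E hu r j, vec_lin R E hu s j, Finset.mul_sum, Finset.mul_sum, ← Finset.sum_add_distrib]
  exact Finset.sum_congr rfl fun k _ => by rw [h k]; ring

theorem pos_iff' (r : Fin D.nroots) : E.rp.wsys.Pos r ↔ R.half ≤ (r : ℕ) := by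
  have h1 := E.isPosRoot_iff r
  have h2 := R.pos_iff r r.2
  exact h1.symm.trans h2

theorem p_val (k : Fin D.rank) : ((E.rp.wsys.p k : Fin D.nroots) : ℕ) = D.simple k := E.hp k

include E in
theorem conj_act {m : GL D.Idx K} {u : Equiv.Perm (Fin D.nroots)} (hu : (ChevGrp.chev E G K).Act m u) (r : Fin D.nroots) (t : K) :
    ∃ c : K, m * xr R (elemOfGood G K) r t * m⁻¹ = xr R (elemOfGood G K) (u r : Fin D.nroots) c ∧ (t ≠ 0 → c ≠ 0) := by
  have h1 : xr R (elemOfGood G K) (r : ℕ) t ∈ (ChevGrp.chev E G K).X r := by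
    rw [ChevGrp.chev_X, rootSubgroup_eq]; exact xr_mem_clo R _ (P := fun s => s = (r : ℕ)) rfl t
  have h2 := hu.conj h1
  rw [ChevGrp.chev_X] at h2
  obtain ⟨c, hc⟩ := (ChevGrp.Inst.mem_rootSubgroup G.toGood2 (u r).2).1 h2
  refine ⟨c, Units.ext (by rw [hc]; rfl), ?_⟩
  rintro ht rfl
  have h3 : m * xr R (elemOfGood G K) r t * m⁻¹ = 1 := by
    apply Units.ext
    rw [hc]
    exact congrArg (fun g : GL D.Idx K => (g : Matrix D.Idx D.Idx K)) (ChevGrp.Inst.xU_zero G.toGood2 _)
  have h4 : xr R (elemOfGood G K) (r : ℕ) t = 1 := by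
    have : xr R (elemOfGood G K) (r : ℕ) t = m⁻¹ * (m * xr R (elemOfGood G K) r t * m⁻¹) * m := by group
    rw [this, h3]; group
  exact xr_ne_one R G r.2 ht h4

/-! ### The radical -/

open scoped Classical in
/-- the parameters of the radical -/
noncomputable def AJ (D : ChevalleyDatum) (K : Type*) [Field K] (J : Set ℕ) (s : ℕ) : AddSubgroup K := if Out D J s then ⊤ else ⊥

theorem AJ_mem {J : Set ℕ} {s : ℕ} {t : K} : t ∈ AJ D K J s ↔ Out D J s ∨ t = 0 := by
  unfold AJ
  by_cases h : Out D J s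
  · rw [if_pos h]; simp [h]
  · rw [if_neg h]; simp [h]

theorem ac_AJ (J : Set ℕ) : AC R (AJ D K J) := by
  intro r s hr hrn hs hsn hsr t ht u hu c hc
  rw [AJ_mem] at ht hu ⊢
  obtain ⟨c1, c2, c3, c4⟩ := R.commTerms_vec hrn hsn c hc
  rcases hu with hu | rfl
  · left
    rw [out_iff R hsn] at hu
    obtain ⟨i, hi, hiJ, h1⟩ := hu
    rw [out_iff R c1]
    refine ⟨i, hi, hiJ, ?_⟩
    rw [c4 i]
    have h6 : (1 : ℤ) ≤ c.2.2.2 := by exact_mod_cast c3
    have h7 : (0 : ℤ) ≤ c.2.2.1 := by positivity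
    have h8 := R.vec_nonneg r hr hrn i
    have : 0 < (c.2.2.2 : ℤ) * R.vec s i := by positivity
    have : 0 ≤ (c.2.2.1 : ℤ) * R.vec r i := by positivity
    linarith
  · right
    rw [zero_pow (by omega), mul_zero]

theorem radical_UA (J : Set ℕ) : D.unipotentRadical K J = UA R G (AJ D K J) 0 := by
  rw [unipotentRadical_eq_clo]
  apply le_antisymm
  · apply clo_le R (elemOfGood G K)
    intro s hs t
    exact xr_UA R G (Nat.zero_le _) ((R.pos_iff s hs.1.1).mp hs.1) hs.1.1 (AJ_mem.2 (Or.inl hs))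
  · rw [UA, closure_le]
    rintro g ⟨s, t, -, -, h3, h4, rfl⟩
    rw [AJ_mem] at h4
    rcases h4 with h4 | rfl
    · exact xr_mem_clo R (elemOfGood G K) (P := fun r => D.IsPosRoot r ∧ ¬ D.InRootSub J r) h4 t
    · rw [xr_zero]; exact one_mem _

theorem xr_lead_V {s k : ℕ} (hs : R.half ≤ s) (hsn : s < D.nroots) {c : K} (hc : c ≠ 0)
    (h : xr R (elemOfGood G K) s c ∈ V R.tab (F := K) k) : k ≤ s := by
  by_contra hlt
  have h1 : xr R (elemOfGood G K) s c ∈ V R.tab (F := K) (s + 1) := V_mono R.tab (by omega) h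
  have h2 : xr R (elemOfGood G K) s 0 * xr R (elemOfGood G K) s c = xr R (elemOfGood G K) s c * 1 := by
    rw [xr_zero, one_mul, mul_one]
  exact hc (eq_of_mul_eq R.tab (elemOfGood G K) hs hsn h1 (one_mem _) h2).1.symm

/-- the Borel subgroup normalises the filtration -/
theorem borel_V {b : GL D.Idx K} (hb : b ∈ D.borelSubgroup K) {k : ℕ} {g : GL D.Idx K} (hg : g ∈ V R.tab (F := K) k) (G : Chev.Good D) :
    b * g * b⁻¹ ∈ V R.tab (F := K) k := by
  obtain ⟨u, hu, χ, rfl, -⟩ := borel_eq R G hb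
  have h1 : torHom D K χ * g * (torHom D K χ)⁻¹ ∈ V R.tab (F := K) k := by
    have : V R.tab (F := K) k ≤ (V R.tab (F := K) k).comap (MulAut.conj (torHom D K χ)).toMonoidHom := by
      rw [V, closure_le]
      rintro x ⟨s, a, h1, h2, h3, h4⟩
      rw [← eq_xu_iff R.tab (elemOfGood G K)] at h4
      subst h4
      show torHom D K χ * xr R (elemOfGood G K) s a * (torHom D K χ)⁻¹ ∈ V R.tab (F := K) k
      rw [torHom_conj R G χ h3]
      exact xr_V R G h1 h2 h3 _
    exact this hg
  have hu' : u ∈ V R.tab (F := K) 0 := by rw [← pos_V R]; exact hu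
  have h2 := mem_V_conj' R hu' h1 G
  have e : u * torHom D K χ * g * (u * torHom D K χ)⁻¹ = u * (torHom D K χ * g * (torHom D K χ)⁻¹) * u⁻¹ := by group
  rw [e]; exact h2

theorem borel_lead {J : Set ℕ} {b : GL D.Idx K} (hb : b ∈ D.borelSubgroup K) {s : ℕ} (hsn : s < D.nroots) (ho : Out D J s) :
    ∃ a : K, a ≠ 0 ∧ ∃ v ∈ UA R G (AJ D K J) (s + 1), b * xr R (elemOfGood G K) s 1 * b⁻¹ = xr R (elemOfGood G K) s a * v := by
  have hs : R.half ≤ s := (R.pos_iff s hsn).mp ho.1
  have h1 := borel_V R hb (xr_V R G le_rfl hs hsn 1) G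
  obtain ⟨a, v, hv, e⟩ := exists_mul_of_mem_V R.tab (elemOfGood G K) hs hsn h1
  have h2 : b * xr R (elemOfGood G K) s 1 * b⁻¹ ∈ D.unipotentRadical K J :=
    (mem_normalizer_iff.mp (parabolic_le_normalizer R G J (mem_sup_left hb)) _).mp (xr_mem_radical R G ho 1)
  rw [radical_UA R G, e] at h2
  refine ⟨a, ?_, v, (lead_of_UA0 R G (ac_AJ R J) hs hsn hv h2).2, e⟩
  rintro rfl
  have e' : b * xr R (elemOfGood G K) s 1 * b⁻¹ = v := by rw [e, xu_zero, one_mul]
  have h3 : b⁻¹ * v * b⁻¹⁻¹ ∈ V R.tab (F := K) (s + 1) := borel_V R (inv_mem hb) hv G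
  rw [← e'] at h3
  have h4 : b⁻¹ * (b * xr R (elemOfGood G K) s 1 * b⁻¹) * b⁻¹⁻¹ = xr R (elemOfGood G K) s 1 := by group
  rw [h4] at h3
  have := xr_lead_V R G hs hsn one_ne_zero h3
  omega

include E in
/-- **Step 1**: the Weyl group element of an element of `P_J` commuting with the `x_s(1)` outside `J` is trivial -/
theorem centF_borel (hc : Conn D) {J : Set ℕ} (hp : ∃ i, i < D.rank ∧ i ∉ J) {z : GL D.Idx K}
    (hz : z ∈ D.parabolicSubgroup K J)
    (hcom : ∀ s < D.nroots, Out D J s → z * xr R (elemOfGood G K) s 1 = xr R (elemOfGood G K) s 1 * z) : z ∈ D.borelSubgroup K := by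
  have hzG := parabolic_le_group R G J hz
  obtain ⟨b, hb, L, x, hx, e⟩ := bruhatL R G E hzG
  set n := (ChevGrp.chev E G K).nd L with hn
  set w := E.rp.wsys.wd L with hw
  have hwW : w ∈ E.rp.wsys.W := E.rp.wsys.wd_mem L
  have hact : (ChevGrp.chev E G K).Act n w := ChevGrp.RGrp.act_nd L
  have hxB : x ∈ D.borelSubgroup K := mem_sup_left (by rw [pos_V R]; exact Um_le R G E w hx)
  have hnP : n ∈ D.parabolicSubgroup K J := by
    have : n = b⁻¹ * z * x⁻¹ := by rw [e]; group
    rw [this]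
    exact mul_mem (mul_mem (inv_mem (mem_sup_left hb)) hz) (inv_mem (mem_sup_left hxB))
  have hnR : ∀ y ∈ D.unipotentRadical K J, n * y * n⁻¹ ∈ D.unipotentRadical K J := fun y hy =>
    (mem_normalizer_iff.mp (parabolic_le_normalizer R G J hnP) y).mp hy
  -- the image of a root outside `J` is outside `J`
  have hout : ∀ s : Fin D.nroots, Out D J s → Out D J (w s : Fin D.nroots) := by
    intro s hs
    obtain ⟨c, hc1, hc2⟩ := conj_act R G E hact s (1 : K)
    have h1 := hnR _ (xr_mem_radical R G hs 1)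
    rw [hc1] at h1
    have h2 : xr R (elemOfGood G K) (w s : Fin D.nroots) c ∈ D.posUnipotent K := radical_le_pos J h1
    have hpos : R.half ≤ ((w s : Fin D.nroots) : ℕ) := by
      rw [← pos_iff' R E]
      by_contra hneg
      have h3 : xr R (elemOfGood G K) (w s : Fin D.nroots) c ∈ D.negUnipotent K := by
        rw [negUnipotent_eq_clo]
        exact xr_mem_clo R _ ((E.isNegRoot_iff _).2 hneg) c
      have h4 := (borel_inf_neg (F := K) R G).1
      have h5 : xr R (elemOfGood G K) (w s : Fin D.nroots) c ∈ D.borelSubgroup K ⊓ D.negUnipotent K := ⟨mem_sup_left h2, h3⟩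
      rw [h4, mem_bot] at h5
      exact xr_ne_one R G (w s).2 (hc2 one_ne_zero) h5
    rw [radical_UA R G] at h1
    have h3 := (lead_of_UA0 R G (ac_AJ R J) hpos (w s).2 (one_mem _) (by rw [mul_one]; exact h1)).1
    rcases AJ_mem.1 h3 with h4 | h4
    · exact h4
    · exact absurd h4 (hc2 one_ne_zero)
  -- downward induction
  have key : ∀ (m : ℕ) (s : Fin D.nroots), D.nroots - s = m → Out D J s → w s = s := by
    intro m
    induction m using Nat.strong_induction_on with
    | _ m ih =>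
      intro s hsm hs
      have hsh : R.half ≤ (s : ℕ) := (R.pos_iff s s.2).mp hs.1
      obtain ⟨a, ha, v, hv, e1⟩ := borel_lead R G (J := J) hxB s.2 hs
      obtain ⟨a', ha', v', hv', e2⟩ := borel_lead R G (J := J) (inv_mem hb) s.2 hs
      obtain ⟨c, hc1, hc2⟩ := conj_act R G E hact s a
      -- conjugation of `v`
      have h1 : n * v * n⁻¹ ∈ V R.tab (F := K) (s + 1) := by
        have : UA R G (AJ D K J) (s + 1) ≤ (V R.tab (F := K) (s + 1)).comap (MulAut.conj n).toMonoidHom := by
          rw [UA, closure_le]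
          rintro y ⟨r, t, h2, h3, h4, h5, rfl⟩
          show n * xr R (elemOfGood G K) r t * n⁻¹ ∈ V R.tab (F := K) (s + 1)
          rcases AJ_mem.1 h5 with h6 | rfl
          · obtain ⟨d, hd, -⟩ := conj_act R G E hact ⟨r, h4⟩ t
            have h7 := ih (D.nroots - r) (by have := s.2; omega) ⟨r, h4⟩ rfl h6
            rw [h7] at hd
            have hd' : n * xr R (elemOfGood G K) r t * n⁻¹ = xr R (elemOfGood G K) r d := hd
            rw [hd']
            exact xr_V R G h2 h3 h4 d
          · rw [xr_zero, mul_one, mul_inv_cancel]; exact one_mem _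
        exact this hv
      have h2 : n * (x * xr R (elemOfGood G K) s 1 * x⁻¹) * n⁻¹ = b⁻¹ * xr R (elemOfGood G K) s 1 * b⁻¹⁻¹ := by
        have h3 := hcom s s.2 hs
        have : n * (x * xr R (elemOfGood G K) s 1 * x⁻¹) * n⁻¹ = b⁻¹ * (z * xr R (elemOfGood G K) s 1) * z⁻¹ * b := by
          rw [e]; group
        rw [this, h3]; group
      rw [e1, e2] at h2
      have h3 : xr R (elemOfGood G K) (w s : Fin D.nroots) c = xr R (elemOfGood G K) s a' * v' * (n * v * n⁻¹)⁻¹ := by
        rw [← hc1, ← h2]; group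
      have h4 : xr R (elemOfGood G K) (w s : Fin D.nroots) c ∈ V R.tab (F := K) s := by
        rw [h3]
        refine mul_mem (mul_mem (xr_V R G le_rfl hsh s.2 _) (V_mono R.tab (Nat.le_succ _) (UA_le_V R G _ _ hv')))
          (inv_mem (V_mono R.tab (Nat.le_succ _) h1))
      have hso := hout s hs
      have h5 : (s : ℕ) ≤ (w s : Fin D.nroots) := xr_lead_V R G ((R.pos_iff _ (w s).2).mp hso.1) (w s).2 (hc2 ha) h4
      by_contra hne
      have h6 : (s : ℕ) < (w s : Fin D.nroots) := lt_of_le_of_ne h5 fun h => hne (Fin.ext h.symm)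
      have h7 := ih (D.nroots - (w s : Fin D.nroots)) (by have := (w s).2; omega) (w s) rfl hso
      exact hne (w.injective h7)
  -- all simple roots are fixed
  have hsimple : ∀ k : Fin D.rank, w (E.rp.wsys.p k) = E.rp.wsys.p k := by
    intro k
    by_cases hkJ : (k : ℕ) ∈ J
    · obtain ⟨r, hr, r', hr', ho, ho', hv⟩ := exists_add_simple R G hc hp k.2 hkJ
      have h1 := key _ ⟨r, hr⟩ rfl ho
      have h2 := key _ ⟨r', hr'⟩ rfl ho'
      have h3 : ∀ j, R.vec (E.rp.wsys.p k : Fin D.nroots) j =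
          1 * R.vec ((⟨r', hr'⟩ : Fin D.nroots) : ℕ) j + (-1) * R.vec ((⟨r, hr⟩ : Fin D.nroots) : ℕ) j := by
        intro j
        rw [p_val E, R.vec_simple k k.2, hv j]; ring
      have h4 := act_add R E hwW h3
      rw [h1, h2] at h4
      apply Fin.ext
      apply R.eq_of_vec (w _).2 (E.rp.wsys.p k).2
      intro i hi
      rw [h4 i, h3 i]
    · refine key _ _ rfl ?_
      rw [p_val E]
      exact out_simple R k.2 hkJ
  have hw1 : w = 1 := by
    by_contra hne
    obtain ⟨j, hj⟩ := E.rp.wsys.descent w hwW hne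
    rw [hsimple j] at hj
    exact hj (E.rp.wsys.pos_p j)
  have hnH : n ∈ D.diagonalSubgroup K := by
    have := ChevGrp.RGrp.mem_H_of_act_one (R := ChevGrp.chev E G K) (ChevGrp.RGrp.nd_mem_N L) (hw1 ▸ hact)
    rwa [ChevGrp.chev_H] at this
  rw [e]
  exact mul_mem (mul_mem hb (mem_sup_right hnH)) hxB

include E in
/-- **Step 2** -/
theorem centF_pos (hc : Conn D) {J : Set ℕ} (hp : ∃ i, i < D.rank ∧ i ∉ J) {z : GL D.Idx K}
    (hz : z ∈ D.parabolicSubgroup K J)
    (hcom : ∀ s < D.nroots, Out D J s → z * xr R (elemOfGood G K) s 1 = xr R (elemOfGood G K) s 1 * z) : z ∈ D.posUnipotent K := by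
  obtain ⟨u, hu, χ, rfl, hχ⟩ := borel_eq R G (centF_borel R G E hc hp hz hcom)
  have h1 : ∀ r < D.nroots, Out D J r → Chev.chr D χ r = 1 := by
    intro r hr hout
    apply borel_centr R G hu χ hr ((R.pos_iff r hr).mp hout.1)
    rw [hcom r hr hout, mul_inv_cancel_right]
  have h2 : ∀ k < D.rank, χ k = 1 := by
    intro k hk
    by_cases hkJ : k ∈ J
    · obtain ⟨r, hr, r', hr', ho, ho', hv⟩ := exists_add_simple R G hc hp hk hkJ
      have h3 := chr_add R G (χ := χ) hk hr hr' hv
      rw [h1 r hr ho, h1 r' hr' ho', one_mul] at h3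
      exact h3.symm
    · rw [← chr_simple G χ hk]
      exact h1 _ (R.simple_lt k hk) (out_simple R hk hkJ)
  have h3 : torHom D K χ = 1 := by
    rw [← map_one (torHom D K)]
    apply torHom_congr
    intro j hj
    rw [h2 j hj]; rfl
  rw [h3, mul_one]
  exact hu

end Cfsg.Agent.ChevM
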