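import Cfsg.Agent.ChevU.OddL
import Cfsg.Agent.S0274

set_option autoImplicit false
set_option linter.unusedSectionVars false
set_option linter.unusedVariables false

/-!
# Minus one in the group generated by two opposite transvections (helper19)
-/

namespace Cfsg.Agent.ChevM

open Cfsg.Lie Matrix Subgroup Cfsg.Agent.ChevU Polynomial

variable {K : Type*} [Field K]

theorem XY00 (lam : K) : (SL2Sys.X 1 * SL2Sys.Y lam).1 0 0 = 1 + lam := by
  rw [sl_mul00, X00, X01, Y00, Y10]; ring
theorem XY01 (lam : K) : (SL2Sys.X 1 * SL2Sys.Y lam).1 0 1 = 1 := by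
  rw [sl_mul01, X00, X01, Y01, Y11]; ring
theorem XY10 (lam : K) : (SL2Sys.X 1 * SL2Sys.Y lam).1 1 0 = lam := by
  rw [sl_mul10, X10, X11, Y00, Y10]; ring
theorem XY11 (lam : K) : (SL2Sys.X 1 * SL2Sys.Y lam).1 1 1 = 1 := by
  rw [sl_mul11, X10, X11, Y01, Y11]; ring

theorem exists_poly (p : ℕ) [Fact p.Prime] [Algebra (ZMod p) K] (lam : K) (j : ℕ) :
    ∃ P Q : (ZMod p)[X], P.Monic ∧ P.natDegree = j ∧ Q.degree < j ∧
      aeval lam P = ((SL2Sys.X 1 * SL2Sys.Y lam) ^ j).1 0 0 ∧ aeval lam Q = ((SL2Sys.X 1 * SL2Sys.Y lam) ^ j).1 0 1 := by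
  induction j with
  | zero =>
    refine ⟨1, 0, monic_one, natDegree_one, by simp, ?_, ?_⟩
    · simp
    · simp
  | succ j ih =>
    obtain ⟨P, Q, h1, h2, h3, h4, h5⟩ := ih
    have hX1 : (X + 1 : (ZMod p)[X]).Monic := by
      have := monic_X_add_C (1 : ZMod p)
      rwa [map_one] at this
    have hX2 : (X + 1 : (ZMod p)[X]).natDegree = 1 := by
      have := natDegree_X_add_C (1 : ZMod p)
      rwa [map_one] at this
    have hm : (P * (X + 1)).Monic := h1.mul hX1
    have hd : (P * (X + 1)).natDegree = j + 1 := by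
      rw [h1.natDegree_mul hX1, h2, hX2]
    have hQ : (Q * X).degree < (P * (X + 1)).degree := by
      rw [degree_eq_natDegree hm.ne_zero, hd, degree_mul, degree_X]
      by_cases hQ0 : Q = 0
      · rw [hQ0, degree_zero]; simp
      · rw [degree_eq_natDegree hQ0] at h3 ⊢
        norm_cast at h3 ⊢
        omega
    refine ⟨P * (X + 1) + Q * X, P + Q, hm.add_of_left hQ, ?_, ?_, ?_, ?_⟩
    · rw [natDegree_add_eq_left_of_degree_lt hQ, hd]
    · refine lt_of_le_of_lt (degree_add_le _ _) (max_lt ?_ ?_)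
      · rw [degree_eq_natDegree h1.ne_zero, h2]
        norm_cast
        omega
      · refine lt_trans h3 ?_
        norm_cast
        omega
    · rw [pow_succ, sl_mul00, XY00, XY10, ← h4, ← h5]
      simp only [map_add, map_mul, aeval_X, map_one]
      ring
    · rw [pow_succ, sl_mul01, XY01, XY11, ← h4, ← h5]
      simp only [map_add, mul_one]

theorem lam_integral (p : ℕ) [Fact p.Prime] [Algebra (ZMod p) K] {lam : K} {N : ℕ} (hN : 0 < N)
    (h : (SL2Sys.X 1 * SL2Sys.Y lam) ^ N = 1) : IsIntegral (ZMod p) lam := by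
  obtain ⟨P, Q, h1, h2, h3, h4, h5⟩ := exists_poly p lam N
  refine ⟨P - 1, ?_, ?_⟩
  · apply Monic.sub_of_left h1
    rw [degree_eq_natDegree h1.ne_zero, h2, degree_one]
    exact_mod_cast hN
  · have : aeval lam (P - 1) = 0 := by
      rw [map_sub, map_one, h4, h]
      simp
    exact this

theorem sl_invol {z : SpecialLinearGroup (Fin 2) K} (h2 : (2 : K) ≠ 0) (hz : z * z = 1) (hz1 : z ≠ 1) : z = dg (-1) := by
  have hdet : z.1 0 0 * z.1 1 1 - z.1 0 1 * z.1 1 0 = 1 := by
    have := z.2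
    rwa [Matrix.det_fin_two] at this
  have e00 := sl_mul00 z z
  have e01 := sl_mul01 z z
  have e10 := sl_mul10 z z
  have e11 := sl_mul11 z z
  rw [hz] at e00 e01 e10 e11
  have o00 : (1 : SpecialLinearGroup (Fin 2) K).1 0 0 = 1 := by simp
  have o01 : (1 : SpecialLinearGroup (Fin 2) K).1 0 1 = 0 := by simp
  have o10 : (1 : SpecialLinearGroup (Fin 2) K).1 1 0 = 0 := by simp
  have o11 : (1 : SpecialLinearGroup (Fin 2) K).1 1 1 = 1 := by simp
  rw [o00] at e00
  rw [o01] at e01
  rw [o10] at e10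
  rw [o11] at e11
  -- trace times `z` is `2`
  have t0 : (z.1 0 0 + z.1 1 1) * z.1 0 0 = 2 := by linear_combination hdet - e00
  have t1 : (z.1 0 0 + z.1 1 1) * z.1 0 1 = 0 := by linear_combination - e01
  have t2 : (z.1 0 0 + z.1 1 1) * z.1 1 0 = 0 := by linear_combination - e10
  have t3 : (z.1 0 0 + z.1 1 1) * z.1 1 1 = 2 := by linear_combination hdet - e11
  have ht : z.1 0 0 + z.1 1 1 ≠ 0 := by
    intro h
    rw [h, zero_mul] at t0
    exact h2 t0.symm
  have b0 : z.1 0 1 = 0 := (mul_eq_zero.1 t1).resolve_left ht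
  have c0 : z.1 1 0 = 0 := (mul_eq_zero.1 t2).resolve_left ht
  have had : z.1 0 0 = z.1 1 1 := mul_left_cancel₀ ht (t0.trans t3.symm)
  rw [b0, c0] at e00
  have ha : (z.1 0 0 - 1) * (z.1 0 0 + 1) = 0 := by linear_combination - e00
  rcases mul_eq_zero.1 ha with h | h
  · exfalso
    apply hz1
    have h' : z.1 0 0 = 1 := sub_eq_zero.1 h
    apply sl_ext
    · rw [h', o00]
    · rw [b0, o01]
    · rw [c0, o10]
    · rw [← had, h', o11]
  · have h' : z.1 0 0 = -1 := eq_neg_of_add_eq_zero_left h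
    apply sl_ext
    · rw [h', dg00]; simp
    · rw [b0, dg01]
    · rw [c0, dg10]
    · rw [← had, h', dg11]; simp

/-- Dickson: two opposite transvections over a finite field generate a group containing `-1` -/
theorem neg_mem_fin [Finite K] (p : ℕ) [hp' : Fact p.Prime] [CharP K p] (hp : p ≠ 2) {lam : K} (hl : lam ≠ 0) :
    (dg (-1) : SpecialLinearGroup (Fin 2) K) ∈ closure {SL2Sys.X 1, SL2Sys.Y lam} := by
  have : Fintype K := Fintype.ofFinite K
  set H : Subgroup (SpecialLinearGroup (Fin 2) K) := closure {SL2Sys.X 1, SL2Sys.Y lam} with hH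
  have h2 : (2 : K) ≠ 0 := by
    intro h
    have h3 : ((2 : ℕ) : K) = 0 := by exact_mod_cast h
    rw [CharP.cast_eq_zero_iff K p] at h3
    exact hp ((Nat.prime_dvd_prime_iff_eq hp'.out Nat.prime_two).1 h3)
  have hX : ∀ t : K, (SL2Sys.X t : SpecialLinearGroup (Fin 2) K) ^ p = 1 := by
    intro t
    have : ∀ n : ℕ, (SL2Sys.X t : SpecialLinearGroup (Fin 2) K) ^ n = SL2Sys.X (n * t) := by
      intro n
      induction n with
      | zero => apply sl_ext <;> simp [X00, X01, X10, X11]
      | succ n ih =>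
        rw [pow_succ, ih]
        apply sl_ext <;> simp only [sl_mul00, sl_mul01, sl_mul10, sl_mul11, X00, X01, X10, X11] <;> push_cast <;> ring
    rw [this, CharP.cast_eq_zero, zero_mul]
    apply sl_ext <;> simp [X00, X01, X10, X11]
  have hY : ∀ t : K, (SL2Sys.Y t : SpecialLinearGroup (Fin 2) K) ^ p = 1 := by
    intro t
    have : ∀ n : ℕ, (SL2Sys.Y t : SpecialLinearGroup (Fin 2) K) ^ n = SL2Sys.Y (n * t) := by
      intro n
      induction n with
      | zero => apply sl_ext <;> simp [Y00, Y01, Y10, Y11]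
      | succ n ih =>
        rw [pow_succ, ih]
        apply sl_ext <;> simp only [sl_mul00, sl_mul01, sl_mul10, sl_mul11, Y00, Y01, Y10, Y11] <;> push_cast <;> ring
    rw [this, CharP.cast_eq_zero, zero_mul]
    apply sl_ext <;> simp [Y00, Y01, Y10, Y11]
  have hcard : 1 < Nat.card (Sylow p H) := by
    by_contra hle
    have h1 : Nat.card (Sylow p H) = 1 := by
      have : 0 < Nat.card (Sylow p H) := Nat.card_pos
      omega
    have hsub : Subsingleton (Sylow p H) := (Nat.card_eq_one_iff_unique.1 h1).1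
    have hxH : (SL2Sys.X 1 : SpecialLinearGroup (Fin 2) K) ∈ H := subset_closure (by simp)
    have hyH : (SL2Sys.Y lam : SpecialLinearGroup (Fin 2) K) ∈ H := subset_closure (by simp)
    have key : ∀ x : H, x ^ p = 1 → ∃ P : Sylow p H, x ∈ P := by
      intro x hx
      have : IsPGroup p (zpowers x) := by
        rintro ⟨y, i, rfl⟩
        refine ⟨1, Subtype.ext ?_⟩
        show (x ^ i) ^ p ^ 1 = 1
        rw [pow_one, ← _root_.zpow_natCast, ← _root_.zpow_mul, mul_comm, _root_.zpow_mul, _root_.zpow_natCast, hx, _root_.one_zpow]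
      obtain ⟨P, hP⟩ := this.exists_le_sylow
      exact ⟨P, hP (mem_zpowers x)⟩
    obtain ⟨P, hP⟩ := key ⟨_, hxH⟩ (Subtype.ext (hX 1))
    obtain ⟨P', hP'⟩ := key ⟨_, hyH⟩ (Subtype.ext (hY lam))
    rw [Subsingleton.elim P' P] at hP'
    obtain ⟨k, hk⟩ := P.isPGroup' ⟨_, mul_mem hP hP'⟩
    have hk1 : (SL2Sys.X 1 * SL2Sys.Y lam) ^ p ^ k = 1 := by
      have := congrArg (fun y : P => (y.1 : SpecialLinearGroup (Fin 2) K)) hk
      simpa using this
    have hk2 : ((SL2Sys.X 1 * SL2Sys.Y lam).1 : Matrix (Fin 2) (Fin 2) K) ^ p ^ k = 1 := by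
      have := congrArg (fun y : SpecialLinearGroup (Fin 2) K => y.1) hk1
      simpa using this
    have h3 : ((SL2Sys.X 1 * SL2Sys.Y lam).1 - 1 : Matrix (Fin 2) (Fin 2) K) ^ p ^ k = 0 := by
      rw [sub_pow_char_pow_of_commute _ _ (Commute.one_right _), hk2, one_pow, sub_self]
    have h4 := congrArg Matrix.det h3
    rw [Matrix.det_pow, Matrix.det_zero] at h4
    have h5 := pow_eq_zero_iff (M₀ := K) (pow_ne_zero k hp'.out.ne_zero) |>.1 h4
    rw [Matrix.det_fin_two] at h5
    simp only [Matrix.sub_apply, XY00, XY01, XY10, XY11, Matrix.one_apply] at h5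
    apply hl
    simpa using h5
  obtain ⟨H', hH', ⟨e⟩⟩ := Cfsg.Agent.S0274.result p hp H hcard
  have h2p : (2 : ZMod p) ≠ 0 := by
    intro h
    have h3 : ((2 : ℕ) : ZMod p) = 0 := by exact_mod_cast h
    rw [CharP.cast_eq_zero_iff (ZMod p) p] at h3
    exact hp ((Nat.prime_dvd_prime_iff_eq hp'.out Nat.prime_two).1 h3)
  set z := e.symm (dg (-1)) with hz
  have hz1 : z ≠ 1 := by
    intro h
    have : e z = 1 := by rw [h, map_one]
    rw [hz, MulEquiv.apply_symm_apply] at this
    exact dg_neg_one_ne h2p this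
  have hz2 : z * z = 1 := by
    rw [hz, ← map_mul, dg_neg_one_sq, map_one]
  have := sl_invol (z := z.1) h2 (by
    have := congrArg Subtype.val hz2
    simpa using this) (fun h => hz1 (Subtype.ext h))
  rw [← this]
  exact hH' z.2

theorem sl_map_val {F' : Type*} [Field F'] (f : F' →+* K) (g : SpecialLinearGroup (Fin 2) F') (i j : Fin 2) :
    (SpecialLinearGroup.map (n := Fin 2) f g).1 i j = f (g.1 i j) := rfl

/-- two opposite transvections whose product has finite order generate a group containing `-1` -/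
theorem sl_neg_mem (p : ℕ) [hp' : Fact p.Prime] [CharP K p] (hp : p ≠ 2) {lam : K} (hl : lam ≠ 0) {N : ℕ} (hN : 0 < N)
    (h : (SL2Sys.X 1 * SL2Sys.Y lam) ^ N = 1) : (dg (-1) : SpecialLinearGroup (Fin 2) K) ∈ closure {SL2Sys.X 1, SL2Sys.Y lam} := by
  letI : Algebra (ZMod p) K := ZMod.algebra K p
  have hint := lam_integral p hN h
  set F' := IntermediateField.adjoin (ZMod p) ({lam} : Set K) with hF
  have : FiniteDimensional (ZMod p) F' := IntermediateField.adjoin.finiteDimensional hint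
  have : Finite F' := Module.finite_of_finite (ZMod p)
  have : CharP F' p := (algebraMap F' K).charP (algebraMap F' K).injective p
  have hmem : lam ∈ F' := IntermediateField.mem_adjoin_simple_self (ZMod p) lam
  have h1 := neg_mem_fin (K := F') p hp (lam := ⟨lam, hmem⟩) (fun h => hl (congrArg Subtype.val h))
  have h2 := mem_map_of_mem (SpecialLinearGroup.map (n := Fin 2) (algebraMap F' K)) h1
  rw [MonoidHom.map_closure, Set.image_pair] at h2
  have e1 : SpecialLinearGroup.map (n := Fin 2) (algebraMap F' K) (dg (-1)) = dg (-1) := by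
    apply sl_ext <;> simp only [sl_map_val, dg00, dg01, dg10, dg11] <;> simp
  have e2 : SpecialLinearGroup.map (n := Fin 2) (algebraMap F' K) (SL2Sys.X 1) = SL2Sys.X 1 := by
    apply sl_ext <;> simp only [sl_map_val, X00, X01, X10, X11] <;> simp
  have e3 : SpecialLinearGroup.map (n := Fin 2) (algebraMap F' K) (SL2Sys.Y ⟨lam, hmem⟩) = SL2Sys.Y lam := by
    apply sl_ext <;> simp only [sl_map_val, Y00, Y01, Y10, Y11] <;> simp
  rwa [e1, e2, e3] at h2

end Cfsg.Agent.ChevM
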