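import Cfsg.Agent.ChevM.Strong
import Cfsg.Agent.ChevM.SLneg
import Cfsg.Agent.ChevU.CentChk

set_option autoImplicit false
set_option linter.unusedSectionVars false
set_option linter.unusedVariables false

/-!
# Conjugates of the central root element (helper19)
-/

namespace Cfsg.Agent.ChevM

open Cfsg.Lie Matrix Subgroup Cfsg.Agent.ChevU Cfsg.Agent.Chev

variable {D : ChevalleyDatum} {K : Type*} [Field K] (R : RootFacts D) (G : Chev.Good D) (E : ChevGrp.DData D)
variable (φ : K →+* K) (𝔽 : Subfield K) (M : Subgroup (GL D.Idx K))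

/-- the highest root element is central in `U` -/
theorem high_central (hn : 0 < D.nroots) {y : GL D.Idx K} (hy : y ∈ V R.tab (F := K) 0) (a : K) :
    y * xr R (elemOfGood G K) (D.nroots - 1) a = xr R (elemOfGood G K) (D.nroots - 1) a * y := by
  have hh : R.half ≤ D.nroots - 1 := by have := R.n_eq; omega
  obtain ⟨v, hv, e⟩ := conj_lead R G hh (by omega) hy a
  have h2 : D.nroots - 1 + 1 = D.nroots := by omega
  rw [h2, V_top R.tab le_rfl, mem_bot] at hv
  rw [hv, mul_one] at e
  calc y * xr R (elemOfGood G K) (D.nroots - 1) a = y * (y⁻¹ * xr R (elemOfGood G K) (D.nroots - 1) a * y) := by rw [e]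
    _ = _ := by group

theorem xr_pos_imp {s : ℕ} (hs : s < D.nroots) {c : K} (hc : c ≠ 0) (h : xr R (elemOfGood G K) s c ∈ D.posUnipotent K)
    (E : ChevGrp.DData D) : R.half ≤ s := by
  have key := pos_iff' R E ⟨s, hs⟩
  rw [← key]
  by_contra hneg
  have h3 : xr R (elemOfGood G K) s c ∈ D.negUnipotent K := by
    rw [negUnipotent_eq_clo]
    exact xr_mem_clo R _ ((E.isNegRoot_iff ⟨s, hs⟩).2 hneg) c
  have h4 := (borel_inf_neg (F := K) R G).1
  have h5 : xr R (elemOfGood G K) s c ∈ D.borelSubgroup K ⊓ D.negUnipotent K := ⟨mem_sup_left h, h3⟩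
  rw [h4, mem_bot] at h5
  exact xr_ne_one R G hs hc h5

include E in
/-- conjugates of the highest root element -/
theorem conj_high (hn : 0 < D.nroots) {m : GL D.Idx K} (hm : m ∈ D.group K) {t : K} (ht : t ≠ 0) :
    ∃ u ∈ V R.tab (F := K) 0, ∃ w ∈ E.rp.wsys.W, ∃ c : K, c ≠ 0 ∧
      m * xr R (elemOfGood G K) (D.nroots - 1) t * m⁻¹ = u * xr R (elemOfGood G K) (nf w (D.nroots - 1)) c * u⁻¹ := by
  obtain ⟨b, hb, L, x, hx, e⟩ := bruhatL R G E hm
  obtain ⟨u, hu, χ, hbu, hχ⟩ := borel_eq R G hb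
  have hact : (ChevGrp.chev E G K).Act ((ChevGrp.chev E G K).nd L) (E.rp.wsys.wd L) := ChevGrp.RGrp.act_nd L
  have hx0 : x ∈ V R.tab (F := K) 0 := Um_le R G E _ hx
  obtain ⟨c, hc1, hc2⟩ := conj_act R G E hact ⟨D.nroots - 1, by omega⟩ t
  have hnf : nf (E.rp.wsys.wd L) (D.nroots - 1) = ((E.rp.wsys.wd L) ⟨D.nroots - 1, by omega⟩ : Fin D.nroots) := by
    unfold nf; rw [dif_pos (by omega)]
  rw [← hnf] at hc1
  have hlt : nf (E.rp.wsys.wd L) (D.nroots - 1) < D.nroots := by rw [hnf]; exact Fin.is_lt _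
  refine ⟨u, by rw [← pos_V R]; exact hu, _, E.rp.wsys.wd_mem L, (Chev.chr D χ (nf (E.rp.wsys.wd L) (D.nroots - 1)) : K) * c,
    mul_ne_zero (Units.ne_zero _) (hc2 ht), ?_⟩
  rw [← torHom_conj R G χ hlt, ← hc1, e, hbu]
  have h1 := high_central R G hn hx0 t
  calc u * torHom D K χ * (ChevGrp.chev E G K).nd L * x * xr R (elemOfGood G K) (D.nroots - 1) t *
        (u * torHom D K χ * (ChevGrp.chev E G K).nd L * x)⁻¹
      = u * torHom D K χ * (ChevGrp.chev E G K).nd L * (x * xr R (elemOfGood G K) (D.nroots - 1) t) * x⁻¹ *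
        (u * torHom D K χ * (ChevGrp.chev E G K).nd L)⁻¹ := by group
    _ = _ := by rw [h1]; group

include E in
/-- a conjugate of the highest root element with leading root `k` -/
theorem conj_high_lead (hn : 0 < D.nroots) {m : GL D.Idx K} (hm : m ∈ D.group K) {t : K} (ht : t ≠ 0) {k : ℕ} (hk : R.half ≤ k)
    (hkn : k < D.nroots) {a : K} (ha : a ≠ 0) {v : GL D.Idx K} (hv : v ∈ V R.tab (F := K) (k + 1))
    (h : m * xr R (elemOfGood G K) (D.nroots - 1) t * m⁻¹ = xr R (elemOfGood G K) k a * v) :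
    ∃ u ∈ V R.tab (F := K) 0, ∃ w ∈ E.rp.wsys.W, ∃ c : K, c ≠ 0 ∧ nf w (D.nroots - 1) = k ∧
      xr R (elemOfGood G K) k a * v = u * xr R (elemOfGood G K) k c * u⁻¹ := by
  obtain ⟨u, hu, w, hw, c, hc, e⟩ := conj_high R G E hn hm ht
  rw [h] at e
  set s := nf w (D.nroots - 1) with hs
  have hsn : s < D.nroots := by
    rw [hs]; unfold nf
    rw [dif_pos (by omega)]
    exact Fin.is_lt _
  have hg : xr R (elemOfGood G K) k a * v ∈ V R.tab (F := K) k :=
    mul_mem (xr_V R G le_rfl hk hkn _) (V_mono R.tab (Nat.le_succ k) hv)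
  have h1 : xr R (elemOfGood G K) s c = u⁻¹ * (xr R (elemOfGood G K) k a * v) * u := by rw [e]; group
  have h2 : xr R (elemOfGood G K) s c ∈ V R.tab (F := K) k := by rw [h1]; exact mem_V_conj R hu hg G
  have h3 : R.half ≤ s := xr_pos_imp R G hsn hc (by rw [pos_V R]; exact V_le0 R _ h2) E
  have h4 : k ≤ s := xr_lead_V R G h3 hsn hc h2
  have h5 : s = k := by
    by_contra hne
    have h6 : xr R (elemOfGood G K) s c ∈ V R.tab (F := K) (k + 1) := xr_V R G (by omega) h3 hsn _
    have h7 := mem_V_conj' R hu h6 G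
    rw [← e] at h7
    have h8 : xr R (elemOfGood G K) k a * v = xr R (elemOfGood G K) k 0 * (xr R (elemOfGood G K) k a * v) := by
      rw [xr_zero, one_mul]
    exact ha (eq_of_mul_eq R.tab (elemOfGood G K) hk hkn hv h7 h8).1
  refine ⟨u, hu, w, hw, c, hc, h5, ?_⟩
  rw [← h5]; rw [← h5] at e; exact e

include E in
/-- short root elements are not conjugate to the highest root element -/
theorem nc_short (hn : 0 < D.nroots) {L : List ℕ} (hL : chkStab D L = true) (hL1 : D.nroots - 1 ∈ L) {hs : ℕ} (hs1 : hs ∉ L)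
    (hk : R.half ≤ hs) (hkn : hs < D.nroots) : ∀ m ∈ D.group K, m * xr R (elemOfGood G K) (D.nroots - 1) 1 * m⁻¹ ≠
      xr R (elemOfGood G K) hs 1 := by
  intro m hm h
  obtain ⟨u, hu, w, hw, c, hc, h1, -⟩ := conj_high_lead R G E hn hm one_ne_zero hk hkn (a := 1) one_ne_zero (one_mem _)
    (by rw [h, mul_one])
  have := mem_of_stab E hL hw hL1
  rw [h1] at this
  exact hs1 this

/-- check for `nc_two` -/
def nchk (D : ChevalleyDatum) (r : ℕ) : Bool :=
  decide (r < D.nroots - 1) && decide (D.nroots / 2 ≤ r) && (List.range' (D.nroots / 2) (D.nroots / 2)).all fun k => k == r ||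
    match D.commTerms r k with
    | [] => true
    | [q] => q.2.2.1 == 1 && q.2.2.2 == 1 && decide (q.1 < D.nroots - 1) && (q.2.1 == 1 || q.2.1 == -1)
    | _ => false

theorem cm_high {r : ℕ} (hr : R.half ≤ r) (hrn : r < D.nroots - 1) (hchk : nchk D r = true) :
    ∀ (j k : ℕ), k + j = D.nroots → R.half ≤ k → ∀ u ∈ V R.tab (F := K) k, ∀ d : K,
      cm u (xr R (elemOfGood G K) r 1) = xr R (elemOfGood G K) (D.nroots - 1) d → d = 0 := by
  have hh : D.nroots / 2 = R.half := by have := R.n_eq; omega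
  have hn := R.n_eq
  intro j
  induction j with
  | zero =>
    intro k hk hk1 u hu d h
    have hk' : k = D.nroots := by omega
    rw [hk', V_top R.tab le_rfl, mem_bot] at hu
    rw [hu, cm_one] at h
    by_contra hd
    exact xr_ne_one R G (by omega) hd h.symm
  | succ j ih =>
    intro k hk hk1 u hu d h
    have hkn : k < D.nroots := by omega
    obtain ⟨a, v, hv, rfl⟩ := exists_mul_of_mem_V R.tab (elemOfGood G K) hk1 hkn hu
    have hcom : cm (xr R (elemOfGood G K) k a) (xr R (elemOfGood G K) r 1) = 1 → d = 0 := by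
      intro h1
      have h2 : cm (xr R (elemOfGood G K) k a * v) (xr R (elemOfGood G K) r 1) = cm v (xr R (elemOfGood G K) r 1) := by
        rw [cm_mul, h1]; group
      exact ih (k + 1) (by omega) (by omega) v hv d (h2.symm.trans h)
    by_cases hkr : k = r
    · apply hcom
      rw [hkr]
      unfold cm
      rw [xr_inv, xr_inv, xr_add, xr_add, xr_add]
      have : -a + (-1 + a + 1) = 0 := by ring
      rw [this, xr_zero]
    unfold nchk at hchk
    rw [hh, Bool.and_eq_true, List.all_eq_true] at hchk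
    have h3 := hchk.2 k (List.mem_range'.mpr ⟨k - R.half, by omega, by omega⟩)
    rw [Bool.or_eq_true, beq_iff_eq] at h3
    have h3 := h3.resolve_left hkr
    have hneg : k ≠ D.neg r := by
      rw [R.tab.neg_val (by omega)]; omega
    split at h3
    · rename_i hq
      apply hcom
      unfold cm
      rw [conj_xu R.tab (elemOfGood G K) (by omega) hkn hkr hneg, inv_mul_cancel_left]
      unfold ChevalleyDatum.commWord
      rw [hq]
      simp [wu]
    · rename_i q hq
      simp only [Bool.and_eq_true, decide_eq_true_eq, beq_iff_eq, Bool.or_eq_true] at h3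
      obtain ⟨⟨⟨h6, h7⟩, h4⟩, h8⟩ := h3
      obtain ⟨m, c, i1, j1⟩ := q
      simp only at h4 h6 h7 h8
      subst h6 h7
      have hlead : LeadC D r k m c := ⟨Ne.symm hkr, [], hq, by simp⟩
      have hmh := (commT_lt R.tab (by omega) hkn hr hk1 hkr (m, c, 1, 1) (by rw [hq]; exact List.mem_cons_self)).2.1
      obtain ⟨v', hv', e⟩ := lead R G hlead hr (by omega) hk1 hkn 1 a hv
      rw [h] at e
      have h9 : xr R (elemOfGood G K) m ((c : K) * (-1) * a) * v' = xr R (elemOfGood G K) m 0 * xr R (elemOfGood G K) (D.nroots - 1) d := by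
        rw [xr_zero, one_mul, ← e]
      have h10 := (eq_of_mul_eq R.tab (elemOfGood G K) hmh (by omega) hv' (xr_V R G (by omega) (by omega) (by omega) _) h9).1
      have hc : (c : K) ≠ 0 := by rcases h8 with rfl | rfl <;> simp
      have ha : a = 0 := by
        have := mul_eq_zero.1 h10
        rcases this with h | h
        · exfalso
          rcases mul_eq_zero.1 h with h | h
          · exact hc h
          · exact neg_ne_zero.2 one_ne_zero h
        · exact h
      apply hcom
      rw [ha, xr_zero, cm_one]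
    · exact absurd h3 (by simp)

include E in
/-- products of two orthogonal root elements are not conjugate to the highest root element -/
theorem nc_two (hn : 0 < D.nroots) {r : ℕ} (hchk : nchk D r = true) : ∀ m ∈ D.group K, m * xr R (elemOfGood G K) (D.nroots - 1) 1 * m⁻¹ ≠
      xr R (elemOfGood G K) r 1 * xr R (elemOfGood G K) (D.nroots - 1) 1 := by
  intro m hm h
  have hh : D.nroots / 2 = R.half := by have := R.n_eq; omega
  have hn' := R.n_eq
  have hc := hchk
  unfold nchk at hc
  rw [Bool.and_eq_true, Bool.and_eq_true, decide_eq_true_eq, decide_eq_true_eq, hh] at hc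
  have hr1 := hc.1.1
  have hr2 := hc.1.2
  obtain ⟨u, hu, w, hw, c, hc, h1, h2⟩ := conj_high_lead R G E hn hm one_ne_zero hr2 (by omega) (a := 1) one_ne_zero
    (xr_V R G (by omega) (by omega) (by omega) _) h
  -- leading coordinate
  obtain ⟨v, hv, e⟩ := conj_lead R G hr2 (by omega) (inv_mem hu) c
  rw [inv_inv, ← h2] at e
  have h3 := (eq_of_mul_eq R.tab (elemOfGood G K) hr2 (by omega) (xr_V R G (by omega) (by omega) (by omega) _) hv e).1
  rw [← h3] at h2
  have h4 : cm u (xr R (elemOfGood G K) r 1) = xr R (elemOfGood G K) (D.nroots - 1) 1 := by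
    have h5 : u * xr R (elemOfGood G K) r 1 = xr R (elemOfGood G K) r 1 * xr R (elemOfGood G K) (D.nroots - 1) 1 * u := by
      rw [h2]; group
    have h6 := high_central R G hn hu 1
    unfold cm
    calc u⁻¹ * ((xr R (elemOfGood G K) r 1)⁻¹ * u * xr R (elemOfGood G K) r 1)
        = u⁻¹ * ((xr R (elemOfGood G K) r 1)⁻¹ * (u * xr R (elemOfGood G K) r 1)) := by group
      _ = u⁻¹ * (xr R (elemOfGood G K) (D.nroots - 1) 1 * u) := by rw [h5]; group
      _ = _ := by rw [← h6]; group
  exact one_ne_zero (cm_high R G hr2 hr1 hchk (D.nroots - R.half) R.half (by omega) le_rfl u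
    (by have := V_half (F := K) R.tab (k := R.half) le_rfl; rw [this]; exact hu) 1 h4)

end Cfsg.Agent.ChevM
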