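import Cfsg.Agent.ChevM.UA

set_option autoImplicit false
set_option linter.unusedSectionVars false
set_option linter.unusedVariables false

/-!
# Extraction of coordinates in overgroups (helper19)
-/

namespace Cfsg.Agent.ChevM

open Cfsg.Lie Matrix Subgroup Cfsg.Agent.ChevU

variable {D : ChevalleyDatum} {K : Type*} [Field K] (R : RootFacts D) (G : Chev.Good D) (𝔽 : Subfield K)

/-- products of positive root elements of index at least `k` with parameters in `𝔽` -/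
def UF (k : ℕ) : Subgroup (GL D.Idx K) := UA R G (fun _ => 𝔽.toAddSubgroup) k

theorem ac_const : AC R (fun _ => 𝔽.toAddSubgroup) := by
  intro r s _ _ _ _ _ t ht u hu c _
  exact mul_mem (S := Subfield K) (s := 𝔽) (mul_mem (intCast_mem _ _) (pow_mem (neg_mem (show t ∈ 𝔽 from ht)) _)) (pow_mem (show u ∈ 𝔽 from hu) _)

/-- the group over the subfield -/
def LF : Subgroup (GL D.Idx K) :=
  closure {g | ∃ (s : ℕ) (t : K), s < D.nroots ∧ t ∈ 𝔽 ∧ g = xr R (elemOfGood G K) s t}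

theorem xr_UF {k s : ℕ} (hk : k ≤ s) (hh : R.half ≤ s) (hs : s < D.nroots) {t : K} (ht : t ∈ 𝔽) :
    xr R (elemOfGood G K) s t ∈ UF R G 𝔽 k := xr_UA R G hk hh hs ht

theorem xr_LF {s : ℕ} (hs : s < D.nroots) {t : K} (ht : t ∈ 𝔽) : xr R (elemOfGood G K) s t ∈ LF R G 𝔽 :=
  subset_closure ⟨s, t, hs, ht, rfl⟩

theorem UF_le_LF (k : ℕ) : UF R G 𝔽 k ≤ LF R G 𝔽 := by
  rw [UF, UA, closure_le]
  rintro g ⟨s, t, h1, h2, h3, h4, rfl⟩
  exact xr_LF R G 𝔽 h3 h4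

variable (M : Subgroup (GL D.Idx K))

/-- `M` contains `u⁻¹ L u` -/
def QQ (u : GL D.Idx K) : Prop := ∀ l ∈ LF R G 𝔽, u⁻¹ * l * u ∈ M

variable {M}

theorem QQ.cm {u l : GL D.Idx K} (h : QQ R G 𝔽 M u) (hL : LF R G 𝔽 ≤ M) (hl : l ∈ LF R G 𝔽) : cm u l ∈ M := by
  have : ChevM.cm u l = (u⁻¹ * l⁻¹ * u) * l := by unfold ChevM.cm; group
  rw [this]
  exact mul_mem (h _ (inv_mem hl)) (hL hl)

theorem QQ_of_mem {u : GL D.Idx K} (h : u ∈ M) (hL : LF R G 𝔽 ≤ M) : QQ R G 𝔽 M u :=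
  fun l hl => mul_mem (mul_mem (inv_mem h) (hL hl)) h

theorem QQ.mul {g v : GL D.Idx K} (hg : g ∈ LF R G 𝔽) (h : QQ R G 𝔽 M (g * v)) : QQ R G 𝔽 M v := by
  intro l hl
  have := h (g * l * g⁻¹) (mul_mem (mul_mem hg hl) (inv_mem hg))
  have e : (g * v)⁻¹ * (g * l * g⁻¹) * (g * v) = v⁻¹ * l * v := by group
  rwa [e] at this

/-- the generic step -/
theorem leadE (hL : LF R G 𝔽 ≤ M) {k : ℕ} (hk : R.half ≤ k) (hkn : k < D.nroots)
    (hV : ∀ g ∈ M, g ∈ V R.tab (F := K) (k + 1) → g ∈ UF R G 𝔽 0)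
    {r m : ℕ} {c : ℤ} (hr : R.half ≤ r) (hrn : r < D.nroots) (hmn : m < D.nroots) (hkm : k < m) (h : LeadC D r k m c) (hc : (c : K) ≠ 0)
    {a : K} {v : GL D.Idx K} (hv : v ∈ V R.tab (F := K) (k + 1)) (hQ : QQ R G 𝔽 M (xr R (elemOfGood G K) k a * v)) : a ∈ 𝔽 := by
  obtain ⟨v', hv', e⟩ := lead R G h hr hrn hk hkn 1 a hv
  have h1 := hQ.cm R G 𝔽 hL (xr_LF R G 𝔽 hrn (one_mem _))
  rw [e] at h1
  have h2 : xr R (elemOfGood G K) m ((c : K) * (-1) * a) * v' ∈ V R.tab (F := K) m :=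
    mul_mem (xr_V R G le_rfl (by omega) hmn _) (V_mono R.tab (Nat.le_succ m) hv')
  have h3 := hV _ h1 (V_mono R.tab (by omega) h2)
  have h5 := (lead_of_UA0 R G (ac_const R 𝔽) (k := m) (by omega) hmn hv' h3).1
  have h5' : (c : K) * (-1) * a ∈ 𝔽 := h5
  have h6 : a = -((c : K)⁻¹ * ((c : K) * (-1) * a)) := by field_simp
  rw [h6]
  exact neg_mem (mul_mem (inv_mem (intCast_mem _ _)) h5')

/-- decidable certificate: every positive root `k` except the highest one and those in `ex` has a leading commutator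
with structure constant in `cs` -/
def lchk (D : ChevalleyDatum) (cs : List ℤ) (ex : List ℕ) : Bool :=
  (List.range' (D.nroots / 2) (D.nroots / 2)).all fun k => ex.contains k ||
    (List.range' (D.nroots / 2) (D.nroots / 2)).any fun r => (r != k) && match D.commTerms r k with
      | q :: rest => decide (k < q.1) && decide (q.1 < D.nroots) && (q.2.2.1 == 1) && (q.2.2.2 == 1) && cs.contains q.2.1 &&
          rest.all fun x => decide (q.1 < x.1)
      | [] => false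

include R in
theorem lead_of_lchk {cs : List ℤ} {ex : List ℕ} (h : lchk D cs ex = true) {k : ℕ} (hk : R.half ≤ k) (hkn : k < D.nroots) (hex : k ∉ ex) :
    ∃ r m c, R.half ≤ r ∧ r < D.nroots ∧ m < D.nroots ∧ k < m ∧ LeadC D r k m c ∧ c ∈ cs := by
  have hh : D.nroots / 2 = R.half := by have := R.n_eq; omega
  have hn := R.n_eq
  unfold lchk at h
  rw [hh, List.all_eq_true] at h
  have h1 := h k (List.mem_range'.mpr ⟨k - R.half, by omega, by omega⟩)
  rw [Bool.or_eq_true, List.contains_iff_mem, List.any_eq_true] at h1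
  rcases h1 with h1 | ⟨r, hr, h2⟩
  · exact absurd h1 hex
  · obtain ⟨i, hi, rfl⟩ := List.mem_range'.mp hr
    rw [Bool.and_eq_true, bne_iff_ne] at h2
    obtain ⟨h2, h3⟩ := h2
    split at h3
    · rename_i q rest hq
      simp only [Bool.and_eq_true, decide_eq_true_eq, beq_iff_eq, List.contains_iff_mem, List.all_eq_true] at h3
      obtain ⟨⟨⟨⟨⟨h4, h5⟩, h6⟩, h7⟩, h8⟩, h9⟩ := h3
      obtain ⟨m, c, i1, j1⟩ := q
      simp only at h4 h5 h6 h7 h8 h9
      subst h6 h7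
      exact ⟨_, m, c, by omega, by omega, h5, h4, ⟨h2, rest, hq, h9⟩, h8⟩
    · exact absurd h3 (by simp)

/-- **Extraction for elements of `M`.** -/
theorem ext1 (hM : ∀ s < D.nroots, ∀ t : K, xr R (elemOfGood G K) s t ∈ M ↔ t ∈ 𝔽) (hL : LF R G 𝔽 ≤ M) {cs : List ℤ} {ex : List ℕ}
    (h : lchk D cs ((D.nroots - 1) :: ex) = true) (hcs : ∀ c ∈ cs, (c : K) ≠ 0)
    (hloc : ∀ k ∈ ex, R.half ≤ k → k < D.nroots → (∀ g ∈ M, g ∈ V R.tab (F := K) (k + 1) → g ∈ UF R G 𝔽 0) →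
      ∀ a : K, ∀ v ∈ V R.tab (F := K) (k + 1), xr R (elemOfGood G K) k a * v ∈ M → a ∈ 𝔽) :
    ∀ g ∈ M, g ∈ V R.tab (F := K) 0 → g ∈ UF R G 𝔽 0 := by
  apply extract R G (· ∈ M)
  · intro k a v hk hkn ha h1
    have := mul_mem (S := Subgroup (GL D.Idx K)) (inv_mem ((hM k hkn a).2 ha)) h1
    rwa [inv_mul_cancel_left] at this
  · intro k hk hkn hV a v hv h1
    by_cases hex : k ∈ (D.nroots - 1) :: ex
    · rcases List.mem_cons.mp hex with rfl | hex
      · have : v = 1 := by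
          have h2 : D.nroots - 1 + 1 = D.nroots := by omega
          rw [h2, V_top R.tab le_rfl, mem_bot] at hv
          exact hv
        rw [this, mul_one] at h1
        exact (hM _ hkn a).1 h1
      · exact hloc k hex hk hkn hV a v hv h1
    · obtain ⟨r, m, c, h2, h3, h4, h5, h6, h7⟩ := lead_of_lchk R h hk hkn hex
      exact leadE R G 𝔽 hL hk hkn hV h2 h3 h4 h5 h6 (hcs c h7) hv (QQ_of_mem R G 𝔽 h1 hL)

/-- **Extraction for elements conjugating `L` into `M`.** -/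
theorem ext2 (hL : LF R G 𝔽 ≤ M) (hE : ∀ g ∈ M, g ∈ V R.tab (F := K) 0 → g ∈ UF R G 𝔽 0) {cs : List ℤ} {ex : List ℕ}
    (h : lchk D cs ex = true) (hcs : ∀ c ∈ cs, (c : K) ≠ 0)
    (hloc : ∀ k ∈ ex, R.half ≤ k → k < D.nroots →
      ∀ a : K, ∀ v ∈ V R.tab (F := K) (k + 1), QQ R G 𝔽 M (xr R (elemOfGood G K) k a * v) → a ∈ 𝔽) :
    ∀ g, QQ R G 𝔽 M g → g ∈ V R.tab (F := K) 0 → g ∈ UF R G 𝔽 0 := by
  apply extract R G (QQ R G 𝔽 M)
  · intro k a v hk hkn ha h1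
    exact h1.mul R G 𝔽 (xr_LF R G 𝔽 hkn ha)
  · intro k hk hkn hV a v hv h1
    by_cases hex : k ∈ ex
    · exact hloc k hex hk hkn a v hv h1
    · obtain ⟨r, m, c, h2, h3, h4, h5, h6, h7⟩ := lead_of_lchk R h hk hkn hex
      exact leadE R G 𝔽 hL hk hkn (fun g hg hgV => hE g hg (V_le0 R _ hgV)) h2 h3 h4 h5 h6 (hcs c h7) hv h1

end Cfsg.Agent.ChevM
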