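import Cfsg.Agent.ChevU.CentInv
import Cfsg.Agent.ChevU.CentU

set_option autoImplicit false
set_option linter.unusedSectionVars false
set_option linter.unusedVariables false

/-!
# Leading coordinates of commutators in the unipotent group (helper19)
-/

namespace Cfsg.Agent.ChevM

open Cfsg.Lie Matrix Subgroup Cfsg.Agent.ChevU

section grp
variable {Γ : Type*} [Group Γ]

/-- the commutator with a fixed right hand element -/
def cm (g y : Γ) : Γ := g⁻¹ * (y⁻¹ * g * y)

theorem cm_mul (g h y : Γ) : cm (g * h) y = h⁻¹ * cm g y * h * cm h y := by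
  unfold cm; group

theorem cm_one (y : Γ) : cm 1 y = 1 := by unfold cm; group

theorem cm_inv (g y : Γ) : cm g⁻¹ y = (g * cm g y * g⁻¹)⁻¹ := by
  unfold cm; group

end grp

variable {D : ChevalleyDatum} {K : Type*} [Field K] (R : RootFacts D) (G : Chev.Good D)

/-- the leading term of the commutator of the roots `r` and `k` -/
def LeadC (D : ChevalleyDatum) (r k m : ℕ) (c : ℤ) : Prop :=
  r ≠ k ∧ ∃ rest, D.commTerms r k = (m, c, 1, 1) :: rest ∧ ∀ q ∈ rest, m < q.1

theorem mem_V_conj {k : ℕ} {y g : GL D.Idx K} (hy : y ∈ V R.tab (F := K) 0) (hg : g ∈ V R.tab (F := K) k) (G : Chev.Good D) :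
    y⁻¹ * g * y ∈ V R.tab (F := K) k := by
  have := (mem_normalizer_iff.mp (V_normalized R.tab (elemOfGood G K) k (inv_mem hy)) g).mp hg
  rwa [inv_inv] at this

theorem mem_V_conj' {k : ℕ} {y g : GL D.Idx K} (hy : y ∈ V R.tab (F := K) 0) (hg : g ∈ V R.tab (F := K) k) (G : Chev.Good D) :
    y * g * y⁻¹ ∈ V R.tab (F := K) k :=
  (mem_normalizer_iff.mp (V_normalized R.tab (elemOfGood G K) k hy) g).mp hg

theorem V_le0 (k : ℕ) : V R.tab (F := K) k ≤ V R.tab 0 := V_mono R.tab (Nat.zero_le k)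

theorem xr_V {k s : ℕ} (hk : k ≤ s) (hh : R.half ≤ s) (hs : s < D.nroots) (u : K) :
    xr R (elemOfGood G K) s u ∈ V R.tab (F := K) k := xu_mem_V R.tab (elemOfGood G K) hk hh hs u

/-- `U` acts trivially on the factors of the filtration -/
theorem conj_lead {m : ℕ} (hm : R.half ≤ m) (hmn : m < D.nroots) {y : GL D.Idx K} (hy : y ∈ V R.tab (F := K) 0) :
    ∀ a : K, ∃ v ∈ V R.tab (F := K) (m + 1), y⁻¹ * xr R (elemOfGood G K) m a * y = xr R (elemOfGood G K) m a * v := by
  unfold V at hy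
  induction hy using closure_induction with
  | mem x hx =>
    obtain ⟨s, u, h1, h2, h3, h4⟩ := hx
    rw [← eq_xu_iff R.tab (elemOfGood G K)] at h4
    intro a
    by_cases hsm : m = s
    · subst hsm
      refine ⟨1, one_mem _, ?_⟩
      rw [h4, xu_inv, xu_add, xu_add, mul_one]
      congr 1; ring
    · have hneg : m ≠ D.neg s := by
        rw [R.tab.neg_val h3]
        have := R.n_eq
        have h2' : R.half ≤ s := h2
        omega
      refine ⟨_, commWord_mem R.tab (elemOfGood G K) h3 hmn h2 hm hsm (Or.inr le_rfl) u a, ?_⟩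
      rw [h4]
      exact conj_xu R.tab (elemOfGood G K) h3 hmn hsm hneg u a
  | one => intro a; exact ⟨1, one_mem _, by group⟩
  | mul x y hx hy ihx ihy =>
    intro a
    have hx' : x ∈ V R.tab (F := K) 0 := hx
    have hy' : y ∈ V R.tab (F := K) 0 := hy
    obtain ⟨v, hv, e⟩ := ihx a
    obtain ⟨v', hv', e'⟩ := ihy a
    refine ⟨v' * (y⁻¹ * v * y), mul_mem hv' (mem_V_conj R hy' hv G), ?_⟩
    calc (x * y)⁻¹ * xr R (elemOfGood G K) m a * (x * y) = y⁻¹ * (x⁻¹ * xr R (elemOfGood G K) m a * x) * y := by group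
      _ = (y⁻¹ * xr R (elemOfGood G K) m a * y) * (y⁻¹ * v * y) := by rw [e]; group
      _ = _ := by rw [e']; group
  | inv x hx ih =>
    intro a
    have hx' : x ∈ V R.tab (F := K) 0 := hx
    obtain ⟨v, hv, e⟩ := ih a
    refine ⟨(x * v * x⁻¹)⁻¹, inv_mem (mem_V_conj' R hx' hv G), ?_⟩
    have : xr R (elemOfGood G K) m a = x * (xr R (elemOfGood G K) m a * v) * x⁻¹ := by rw [← e]; group
    rw [eq_mul_inv_iff_mul_eq]
    calc x⁻¹⁻¹ * xr R (elemOfGood G K) m a * x⁻¹ * (x * v * x⁻¹) = x * (xr R (elemOfGood G K) m a * v) * x⁻¹ := by group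
      _ = _ := this.symm

/-- commutators raise the index -/
theorem cm_mem_V {r k j : ℕ} (hr : R.half ≤ r) (hrn : r < D.nroots) (hk : R.half ≤ k)
    (hj : ∀ s, R.half ≤ s → k ≤ s → s < D.nroots → s ≠ r → ∀ q ∈ D.commTerms r s, j ≤ q.1) (t : K)
    {g : GL D.Idx K} (hg : g ∈ V R.tab (F := K) k) : cm g (xr R (elemOfGood G K) r t) ∈ V R.tab (F := K) j := by
  unfold V at hg
  induction hg using closure_induction with
  | mem x hx =>
    obtain ⟨s, u, h1, h2, h3, h4⟩ := hx
    rw [← eq_xu_iff R.tab (elemOfGood G K)] at h4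
    by_cases hsr : s = r
    · subst hsr
      have : cm x (xr R (elemOfGood G K) s t) = 1 := by
        unfold cm
        rw [h4, xu_inv, xu_inv, xu_add, xu_add, xu_add]
        have : -u + (-t + u + t) = 0 := by ring
        rw [this, xu_zero]
      rw [this]; exact one_mem _
    · have hneg : s ≠ D.neg r := by
        rw [R.tab.neg_val hrn]
        have := R.n_eq
        have h2' : R.half ≤ s := h2
        omega
      have e : cm x (xr R (elemOfGood G K) r t) = wu R.tab (elemOfGood G K) (D.commWord K r s t u) := by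
        unfold cm
        rw [h4, conj_xu R.tab (elemOfGood G K) hrn h3 hsr hneg, inv_mul_cancel_left]
      rw [e]
      apply wu_mem
      intro p hp
      obtain ⟨c, hc, rfl⟩ := List.mem_map.mp hp
      have h5 := commT_lt R.tab hrn h3 hr h2 hsr c hc
      exact xu_mem_V R.tab _ (hj s h2 h1 h3 hsr c hc) h5.2.1 h5.1 _
  | one => rw [cm_one]; exact one_mem _
  | mul x y hx hy ihx ihy =>
    rw [cm_mul]
    exact mul_mem (mem_V_conj R (V_le0 R k hy) ihx G) ihy
  | inv x hx ih =>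
    rw [cm_inv]
    exact inv_mem (mem_V_conj' R (V_le0 R k hx) ih G)

/-- **the leading coordinate of a commutator** -/
theorem lead {r k m : ℕ} {c : ℤ} (h : LeadC D r k m c) (hr : R.half ≤ r) (hrn : r < D.nroots) (hk : R.half ≤ k)
    (hkn : k < D.nroots) (t a : K) {v : GL D.Idx K} (hv : v ∈ V R.tab (F := K) (k + 1)) :
    ∃ v' ∈ V R.tab (F := K) (m + 1), cm (xr R (elemOfGood G K) k a * v) (xr R (elemOfGood G K) r t) =
      xr R (elemOfGood G K) m ((c : K) * (-t) * a) * v' := by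
  obtain ⟨hrk, rest, hT, hrest⟩ := h
  have hneg : k ≠ D.neg r := by
    rw [R.tab.neg_val hrn]
    have := R.n_eq
    omega
  obtain ⟨hm1, -, -, hmv⟩ := R.commTerms_vec hrn hkn (m, c, 1, 1) (by rw [hT]; exact List.mem_cons_self)
  have hmh := (commT_lt R.tab hrn hkn hr hk (Ne.symm hrk) (m, c, 1, 1) (by rw [hT]; exact List.mem_cons_self)).2.1
  have hκ : R.κ m = R.κ r + R.κ k := by
    have := R.κ_of_vec (k := m) (r := r) (s := k) (a := 1) (b := 1) (fun j => by have := hmv j; simpa using this)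
    rw [this]; ring
  have h0 : cm (xr R (elemOfGood G K) k a) (xr R (elemOfGood G K) r t) =
      wu R.tab (elemOfGood G K) (D.commWord K r k t a) := by
    unfold cm
    rw [conj_xu R.tab (elemOfGood G K) hrn hkn (Ne.symm hrk) hneg, inv_mul_cancel_left]
  have h1 : wu R.tab (elemOfGood G K) (D.commWord K r k t a) = xr R (elemOfGood G K) m ((c : K) * (-t) * a) *
      wu R.tab (elemOfGood G K) (rest.map fun c => (c.1, (c.2.1 : K) * (-t) ^ c.2.2.1 * a ^ c.2.2.2)) := by
    unfold ChevalleyDatum.commWord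
    rw [hT, List.map_cons]
    unfold wu
    rw [List.map_cons, List.prod_cons]
    simp
  have h2 : wu R.tab (elemOfGood G K) (rest.map fun c => (c.1, (c.2.1 : K) * (-t) ^ c.2.2.1 * a ^ c.2.2.2)) ∈
      V R.tab (F := K) (m + 1) := by
    apply wu_mem
    intro p hp
    obtain ⟨q, hq, rfl⟩ := List.mem_map.mp hp
    have h5 := commT_lt R.tab hrn hkn hr hk (Ne.symm hrk) q (by rw [hT]; exact List.mem_cons_of_mem _ hq)
    exact xu_mem_V R.tab _ (hrest q hq) h5.2.1 h5.1 _
  have hv0 : v ∈ V R.tab (F := K) 0 := V_le0 R _ hv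
  have h3 : cm v (xr R (elemOfGood G K) r t) ∈ V R.tab (F := K) (m + 1) := by
    apply cm_mem_V R G hr hrn (k := k + 1) (by omega) _ t hv
    intro s hs hks hsn hsr q hq
    obtain ⟨hq1, hq2, hq3, hq4⟩ := R.commTerms_vec hrn hsn q hq
    have hκq := R.κ_of_vec hq4
    have hks' := R.mono k s (by omega) hsn
    have hks'' : R.κ k < R.κ s := hks'
    have p1 : 0 < R.κ r := R.tab.κ_pos hrn hr
    have p2 : 0 < R.κ s := R.tab.κ_pos hsn hs
    have h7 : (1 : ℤ) ≤ q.2.2.1 := by exact_mod_cast hq2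
    have h8 : (1 : ℤ) ≤ q.2.2.2 := by exact_mod_cast hq3
    have : R.κ m < R.κ q.1 := by rw [hκ, hκq]; nlinarith
    have := R.tab.lt_of_κ_lt hm1 hq1 this
    omega
  obtain ⟨v₁, hv₁, e₁⟩ := conj_lead R G hmh hm1 hv0 ((c : K) * (-t) * a)
  refine ⟨v₁ * (v⁻¹ * wu R.tab (elemOfGood G K) (rest.map fun c => (c.1, (c.2.1 : K) * (-t) ^ c.2.2.1 * a ^ c.2.2.2)) * v) *
    cm v (xr R (elemOfGood G K) r t), mul_mem (mul_mem hv₁ (mem_V_conj R hv0 h2 G)) h3, ?_⟩
  rw [cm_mul, h0, h1]
  calc v⁻¹ * (xr R (elemOfGood G K) m ((c : K) * (-t) * a) * wu R.tab (elemOfGood G K)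
        (rest.map fun c => (c.1, (c.2.1 : K) * (-t) ^ c.2.2.1 * a ^ c.2.2.2))) * v * cm v (xr R (elemOfGood G K) r t)
      = (v⁻¹ * xr R (elemOfGood G K) m ((c : K) * (-t) * a) * v) * (v⁻¹ * wu R.tab (elemOfGood G K)
        (rest.map fun c => (c.1, (c.2.1 : K) * (-t) ^ c.2.2.1 * a ^ c.2.2.2)) * v) * cm v (xr R (elemOfGood G K) r t) := by group
    _ = _ := by rw [e₁]; group

end Cfsg.Agent.ChevM
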