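import Cfsg.Agent.ChevM.Two

set_option autoImplicit false
set_option linter.unusedSectionVars false
set_option linter.unusedVariables false

/-!
# The end of the proof in odd characteristic (helper19)
-/

namespace Cfsg.Agent.ChevM

open Cfsg.Lie Matrix Subgroup Cfsg.Agent.ChevU Cfsg.Agent.Chev

variable {D : ChevalleyDatum} {K : Type*} [Field K] (R : RootFacts D) (G : Chev.Good D) (E : ChevGrp.DData D)
variable {φ : K →+* K} {𝔽 : Subfield K} {M : Subgroup (GL D.Idx K)}

theorem fphi_X (r : Fin D.nroots) (t : K) : phi R G r (SL2Sys.X t) = xr R (elemOfGood G K) r t := by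
  rw [phi_X, ← xr_eq_xU (R := R) (H := G)]

theorem fphi_Y (r : Fin D.nroots) (t : K) : phi R G r (SL2Sys.Y t) = xr R (elemOfGood G K) (D.neg r) t := by
  rw [phi_Y, ← xr_eq_xU (R := R) (H := G)]

theorem hU_xr {r : ℕ} (hr : r < D.nroots) {c : K} (hc : c ≠ 0) {s : ℕ} (hs : s < D.nroots) (t : K) :
    hU R (elemOfGood G K) r c * xr R (elemOfGood G K) s t * (hU R (elemOfGood G K) r c)⁻¹ =
      xr R (elemOfGood G K) s (c ^ Chev.pr D r s * t) := by
  have h1 := ChevGrp.Inst.hU_xU G hr hc hs t
  have e : hU R (elemOfGood G K) r c = ChevGrp.Inst.hU G r c := by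
    apply Units.ext
    rw [coe_hU, ChevGrp.Inst.val_hU]
  rw [e, xr_eq_xU (H := G), xr_eq_xU (H := G)]
  exact h1

theorem phi_dg' (r : Fin D.nroots) (t : Kˣ) : phi R G r (dg t) = hU R (elemOfGood G K) (r : ℕ) (t : K) := by
  rw [phi_dg]
  apply Units.ext
  rw [coe_hU, ChevGrp.Inst.val_hU]

include E in
theorem phi_ker (r : Fin D.nroots) {g : SpecialLinearGroup (Fin 2) K} (hg : phi R G r g = 1) : g * g = 1 := by
  by_cases hc : g.1 1 0 = 0
  · obtain ⟨t, a, rfl⟩ := sl_upper hc
    rw [map_mul, fphi_X, phi_dg'] at hg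
    have h1 := hU_xr R G r.2 (Units.ne_zero a) r.2 (1 : K)
    have h2 : hU R (elemOfGood G K) (r : ℕ) (a : K) = xr R (elemOfGood G K) r (-t) := by
      rw [← xr_inv, eq_inv_iff_mul_eq_one]
      have h3 : (xr R (elemOfGood G K) r t)⁻¹ * (xr R (elemOfGood G K) r t * hU R (elemOfGood G K) (r : ℕ) (a : K)) * xr R (elemOfGood G K) r t =
        (xr R (elemOfGood G K) r t)⁻¹ * 1 * xr R (elemOfGood G K) r t := by rw [hg]
      rw [mul_one, inv_mul_cancel] at h3
      rw [← h3]; group
    have h4 : (a : K) ^ 2 = 1 := by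
      rw [h2, xr_inv, xr_add, xr_add, pr_self_eq G r.2] at h1
      have := xr_injective R G r.2 h1
      rw [mul_one] at this
      have e : (-t + 1 + - -t : K) = 1 := by ring
      rw [e] at this
      exact_mod_cast this.symm
    have h5 : a * a = 1 := by
      apply Units.ext
      rw [Units.val_mul, Units.val_one, ← pow_two, h4]
    have h6 : xr R (elemOfGood G K) r (t + t) = 1 := by
      have h7 : (SL2Sys.X t * dg a) * (SL2Sys.X t * dg a) = SL2Sys.X (t + t) := by
        have hai : a⁻¹ = a := by rw [inv_eq_iff_mul_eq_one]; exact h5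
        have h8 : (a : K) * a = 1 := by rw [← Units.val_mul, h5, Units.val_one]
        apply sl_ext <;> simp only [sl_mul00, sl_mul01, sl_mul10, sl_mul11, X00, X01, X10, X11, dg00, dg01, dg10, dg11, hai]
        · linear_combination h8
        · linear_combination 2 * t * h8
        · ring
        · linear_combination h8
      rw [← fphi_X R G r, ← h7, map_mul, map_mul, fphi_X, phi_dg', hg, one_mul]
    have h7 : t + t = 0 := by
      by_contra hne
      exact xr_ne_one R G r.2 hne h6
    have hai : a⁻¹ = a := by rw [inv_eq_iff_mul_eq_one]; exact h5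
    have h8 : (a : K) * a = 1 := by rw [← Units.val_mul, h5, Units.val_one]
    have o00 : (1 : SpecialLinearGroup (Fin 2) K).1 0 0 = 1 := by simp
    have o01 : (1 : SpecialLinearGroup (Fin 2) K).1 0 1 = 0 := by simp
    have o10 : (1 : SpecialLinearGroup (Fin 2) K).1 1 0 = 0 := by simp
    have o11 : (1 : SpecialLinearGroup (Fin 2) K).1 1 1 = 1 := by simp
    apply sl_ext <;> simp only [sl_mul00, sl_mul01, sl_mul10, sl_mul11, X00, X01, X10, X11, dg00, dg01, dg10, dg11, hai, o00, o01, o10, o11]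
    · linear_combination h8
    · linear_combination 2 * t * h8 + h7
    · ring
    · linear_combination h8
  · exfalso
    obtain ⟨t, t', u, rfl⟩ := sl_lower hc
    rw [map_mul, map_mul, phi_X, phi_X, phi_nt] at hg
    have hX : ∀ t : K, xU G.toGood2 (r : ℕ) t ∈ (ChevGrp.chev E G K).X r := fun t => by
      rw [ChevGrp.chev_X]; exact ChevGrp.Inst.xU_mem G.toGood2 _ _
    have hn : ChevGrp.Inst.nU G (r : ℕ) (u : K) ∈ (ChevGrp.chev E G K).X r := by
      have h1 : ChevGrp.Inst.nU G (r : ℕ) (u : K) = (xU G.toGood2 (r : ℕ) t)⁻¹ * (xU G.toGood2 (r : ℕ) t')⁻¹ := by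
        have h2 := eq_inv_of_mul_eq_one_left hg
        rw [← h2]; group
      rw [h1]; exact mul_mem (inv_mem (hX _)) (inv_mem (hX _))
    have hA := (act_nU_unit (F := K) (R := R) (H := G) (E := E) r u).1
    have h3 : r = E.rp.wsys.neg r := by
      apply (ChevGrp.chev E G K).X_inj
      intro x hx
      have h4 : (ChevGrp.Inst.nU G (r : ℕ) (u : K))⁻¹ * x * ChevGrp.Inst.nU G (r : ℕ) (u : K) ∈ (ChevGrp.chev E G K).X r := mul_mem (mul_mem (inv_mem hn) hx) hn
      have h5 := hA.conj h4
      rw [sg_self] at h5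
      have e : ChevGrp.Inst.nU G (r : ℕ) (u : K) * ((ChevGrp.Inst.nU G (r : ℕ) (u : K))⁻¹ * x * ChevGrp.Inst.nU G (r : ℕ) (u : K)) * (ChevGrp.Inst.nU G (r : ℕ) (u : K))⁻¹ = x := by group
      rwa [e] at h5
    have h6 := E.rp.wsys.pos_neg_iff r
    rw [← h3] at h6
    tauto

/-- check for the odd case -/
def ochk (D : ChevalleyDatum) (L : List ℕ) : Bool :=
  (L.all fun s => s == 0 || s == D.nroots - 1 || match D.commTerms (D.nroots - 1) s with
    | [] => true
    | [q] => q.2.2.1 == 1 && q.2.2.2 == 1 && (q.2.1 == 1 || q.2.1 == -1) && decide (D.nroots / 2 ≤ q.1) && decide (q.1 < D.nroots) &&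
        q.1 != s && q.1 != D.neg s && (D.commTerms q.1 s).isEmpty
    | _ => false) &&
  ((List.range' (D.nroots / 2) (D.nroots / 2)).all fun k => k == D.nroots - 1 ||
    (Chev.pr D (D.nroots - 1) k == 0 && (D.commTerms k 0).isEmpty) || Chev.pr D (D.nroots - 1) k == 1)

theorem xr_comm {r s : ℕ} (hr : r < D.nroots) (hs : s < D.nroots) (hsr : s ≠ r) (hsn : s ≠ D.neg r) (h : D.commTerms r s = []) (t u : K) :
    xr R (elemOfGood G K) r t * xr R (elemOfGood G K) s u = xr R (elemOfGood G K) s u * xr R (elemOfGood G K) r t := by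
  have h1 := conj_xu R.tab (elemOfGood G K) hr hs hsr hsn t u
  unfold ChevalleyDatum.commWord at h1
  rw [h] at h1
  have h2 : wu R.tab (elemOfGood G K) (([] : List (ℕ × ℤ × ℕ × ℕ)).map fun c => (c.1, (c.2.1 : K) * (-t) ^ c.2.2.1 * u ^ c.2.2.2)) = 1 := by
    simp [wu]
  rw [h2, mul_one] at h1
  calc xr R (elemOfGood G K) r t * xr R (elemOfGood G K) s u
      = xr R (elemOfGood G K) r t * ((xu R.tab (elemOfGood G K) r t)⁻¹ * xu R.tab (elemOfGood G K) s u * xu R.tab (elemOfGood G K) r t) := by rw [h1]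
    _ = _ := by group

/-- stripping rational coordinates -/
theorem strip (S : Sit R G φ 𝔽 M) (h2 : (2 : K) ≠ 0) {L : List ℕ} (hchk : ochk D L = true) (hn0 : 0 < D.nroots) :
    ∀ (j k : ℕ), k + j = D.nroots → R.half ≤ k → ∀ g ∈ V R.tab (F := K) k,
      sg D φ (g * hU R (elemOfGood G K) (D.nroots - 1) (-1) * g⁻¹) = g * hU R (elemOfGood G K) (D.nroots - 1) (-1) * g⁻¹ →
      ∃ q ∈ LF R G 𝔽, ∃ d : K, ∀ lam : K, g * xr R (elemOfGood G K) 0 lam * g⁻¹ =
        q * (xr R (elemOfGood G K) (D.nroots - 1) d * xr R (elemOfGood G K) 0 lam * xr R (elemOfGood G K) (D.nroots - 1) (-d)) * q⁻¹ := by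
  have hh : D.nroots / 2 = R.half := by have := R.n_eq; omega
  have hn := R.n_eq
  set h := hU R (elemOfGood G K) (D.nroots - 1) (-1) with hhdef
  have hφ : sg D φ h = h := by rw [hhdef, sg_hU R G φ, map_neg, map_one]
  have hhB : h ∈ D.borelSubgroup K := mem_sup_right (hU_mem_diag R _ (by omega) (neg_ne_zero.2 one_ne_zero))
  intro j
  induction j with
  | zero =>
    intro k hk hk1 g hg _
    have hk' : k = D.nroots := by omega
    rw [hk', V_top R.tab le_rfl, mem_bot] at hg
    subst hg
    refine ⟨1, one_mem _, 0, fun lam => ?_⟩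
    rw [neg_zero, xr_zero]; group
  | succ j ih =>
    intro k hk hk1 g hg hP
    have hkn : k < D.nroots := by omega
    obtain ⟨a, v, hv, rfl⟩ := exists_mul_of_mem_V R.tab (elemOfGood G K) hk1 hkn hg
    have hact := hU_xr R G (r := D.nroots - 1) (by omega) (c := (-1 : K)) (neg_ne_zero.2 one_ne_zero) hkn
    rw [← hhdef] at hact
    by_cases hk2 : k = D.nroots - 1
    · have hv1 : v = 1 := by
        have : k + 1 = D.nroots := by omega
        rw [this, V_top R.tab le_rfl, mem_bot] at hv
        exact hv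
      subst hv1
      refine ⟨1, one_mem _, a, fun lam => ?_⟩
      rw [← hk2]
      show xr R (elemOfGood G K) k a * 1 * xr R (elemOfGood G K) 0 lam * (xr R (elemOfGood G K) k a * 1)⁻¹ = _
      rw [mul_one, xr_inv]; group
    unfold ochk at hchk
    rw [hh, Bool.and_eq_true, List.all_eq_true, List.all_eq_true] at hchk
    have h3 := hchk.2 k (List.mem_range'.mpr ⟨k - R.half, by omega, by omega⟩)
    simp only [Bool.or_eq_true, beq_iff_eq, Bool.and_eq_true, List.isEmpty_iff] at h3
    have hxk : xu R.tab (elemOfGood G K) k a = xr R (elemOfGood G K) k a := rfl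
    rw [hxk] at hP ⊢
    rcases h3 with (h3 | ⟨h3, h4⟩) | h3
    · exact absurd h3 hk2
    · -- commuting case
      rw [h3, _root_.zpow_zero] at hact
      set v' := xr R (elemOfGood G K) k a * v * (xr R (elemOfGood G K) k a)⁻¹ with hv'
      have hv'V : v' ∈ V R.tab (F := K) (k + 1) := mem_V_conj' R (xr_V R G (Nat.zero_le _) hk1 hkn _) hv G
      have e1 : xr R (elemOfGood G K) k a * v = v' * xr R (elemOfGood G K) k a := by rw [hv']; group
      have e2 : xr R (elemOfGood G K) k a * h * (xr R (elemOfGood G K) k a)⁻¹ = h := by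
        have := hact a
        rw [one_mul] at this
        calc xr R (elemOfGood G K) k a * h * (xr R (elemOfGood G K) k a)⁻¹
            = (h * xr R (elemOfGood G K) k a * h⁻¹) * h * (xr R (elemOfGood G K) k a)⁻¹ := by rw [this]
          _ = h := by group
      have e3 : xr R (elemOfGood G K) k a * v * h * (xr R (elemOfGood G K) k a * v)⁻¹ = v' * h * v'⁻¹ := by
        rw [e1]
        calc v' * xr R (elemOfGood G K) k a * h * (v' * xr R (elemOfGood G K) k a)⁻¹
            = v' * (xr R (elemOfGood G K) k a * h * (xr R (elemOfGood G K) k a)⁻¹) * v'⁻¹ := by group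
          _ = _ := by rw [e2]
      rw [e3] at hP
      obtain ⟨q, hq, d, h5⟩ := ih (k + 1) (by omega) (by omega) v' hv'V hP
      refine ⟨q, hq, d, fun lam => ?_⟩
      rw [← h5 lam, e1]
      have h6 := xr_comm R G (r := k) (s := 0) hkn (by omega) (by omega) (by rw [R.tab.neg_val hkn]; omega) h4 a lam
      calc v' * xr R (elemOfGood G K) k a * xr R (elemOfGood G K) 0 lam * (v' * xr R (elemOfGood G K) k a)⁻¹
          = v' * (xr R (elemOfGood G K) k a * xr R (elemOfGood G K) 0 lam) * (xr R (elemOfGood G K) k a)⁻¹ * v'⁻¹ := by group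
        _ = _ := by rw [h6]; group
    · -- rational coordinate
      rw [h3, _root_.zpow_one] at hact
      set w := v * (h * v⁻¹ * h⁻¹) with hw
      have hwV : w ∈ V R.tab (F := K) (k + 1) := mul_mem hv (borel_V R hhB (inv_mem hv) G)
      set w' := xr R (elemOfGood G K) k (-a) * w * xr R (elemOfGood G K) k a with hw'
      have hw'V : w' ∈ V R.tab (F := K) (k + 1) := by
        have := mem_V_conj R (xr_V R G (Nat.zero_le k) hk1 hkn a) hwV G
        rwa [xr_inv] at this
      have e1 : xr R (elemOfGood G K) k a * v * h * (xr R (elemOfGood G K) k a * v)⁻¹ = xr R (elemOfGood G K) k (a + a) * w' * h := by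
        have h5 := hact (-a)
        calc xr R (elemOfGood G K) k a * v * h * (xr R (elemOfGood G K) k a * v)⁻¹
            = xr R (elemOfGood G K) k a * (v * (h * v⁻¹ * h⁻¹)) * (h * (xr R (elemOfGood G K) k a)⁻¹ * h⁻¹) * h := by group
          _ = xr R (elemOfGood G K) k a * w * xr R (elemOfGood G K) k a * h := by
            rw [xr_inv, h5, ← hw]
            have : (-1 * -a : K) = a := by ring
            rw [this]
          _ = xr R (elemOfGood G K) k (a + a) * w' * h := by
            rw [hw', ← xr_add, ← xr_inv]; group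
      rw [e1, map_mul, map_mul, hφ, sg_xr R G φ] at hP
      have h6 := mul_right_cancel hP
      have h7 := (eq_of_mul_eq R.tab (elemOfGood G K) hk1 hkn (sg_V R φ _ hw'V G) hw'V h6).1
      have haF : a ∈ 𝔽 := by
        have h8 : a + a ∈ 𝔽 := (S.hf _).2 h7
        have h9 : a = 2⁻¹ * (a + a) := by field_simp; ring
        rw [h9]
        exact mul_mem (inv_mem (by exact_mod_cast natCast_mem 𝔽 2)) h8
      have haφ : sg D φ (xr R (elemOfGood G K) k a) = xr R (elemOfGood G K) k a := by rw [sg_xr R G φ, (S.hf a).1 haF]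
      have hP' : sg D φ (v * h * v⁻¹) = v * h * v⁻¹ := by
        have e : v * h * v⁻¹ = (xr R (elemOfGood G K) k a)⁻¹ * (xr R (elemOfGood G K) k (a + a) * w' * h) * xr R (elemOfGood G K) k a := by
          rw [← e1]; group
        rw [e, map_mul, map_mul, map_inv, haφ]
        rw [map_mul, map_mul, hφ, sg_xr R G φ, hP]
      obtain ⟨q, hq, d, h5⟩ := ih (k + 1) (by omega) (by omega) v hv hP'
      refine ⟨xr R (elemOfGood G K) k a * q, mul_mem (xr_LF R G 𝔽 hkn haF) hq, d, fun lam => ?_⟩
      calc xr R (elemOfGood G K) k a * v * xr R (elemOfGood G K) 0 lam * (xr R (elemOfGood G K) k a * v)⁻¹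
          = xr R (elemOfGood G K) k a * (v * xr R (elemOfGood G K) 0 lam * v⁻¹) * (xr R (elemOfGood G K) k a)⁻¹ := by group
        _ = _ := by rw [h5 lam]; group

end Cfsg.Agent.ChevM
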