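import Cfsg.Agent.ChevM.Cent

set_option autoImplicit false
set_option linter.unusedSectionVars false
set_option linter.unusedVariables false

/-!
# Finite overgroups meet proper parabolic subgroups in rational points (helper19)
-/

namespace Cfsg.Agent.ChevM

open Cfsg.Lie Matrix Subgroup Cfsg.Agent.ChevU Cfsg.Agent.Chev

variable {D : ChevalleyDatum} {K : Type*} [Field K] (R : RootFacts D) (G : Chev.Good D) (E : ChevGrp.DData D)

theorem not_out_iff {J : Set ℕ} {s : Fin D.nroots} (hs : E.rp.wsys.Pos s) : ¬ Out D J s ↔ ∀ i < D.rank, i ∉ J → R.vec s i = 0 := by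
  rw [out_iff R s.2]
  have hp := (pos_iff' R E s).1 hs
  constructor
  · intro h i hi hiJ
    by_contra hne
    exact h ⟨i, hi, hiJ, lt_of_le_of_ne (R.vec_nonneg s hp s.2 i) (Ne.symm hne)⟩
  · rintro h ⟨i, hi, hiJ, h1⟩
    have := h i hi hiJ
    omega

include R in
theorem exists_longestJ (J : Set ℕ) : ∃ L : List (Fin D.rank), (∀ k ∈ L, (k : ℕ) ∈ J) ∧
    ∀ s : Fin D.nroots, E.rp.wsys.Pos s → ¬ Out D J s → ¬ E.rp.wsys.Pos (E.rp.wsys.wd L s) := by
  classical
  let S : List (Fin D.rank) → Finset (Fin D.nroots) := fun L =>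
    Finset.univ.filter fun s => E.rp.wsys.Pos s ∧ ¬ Out D J s ∧ ¬ E.rp.wsys.Pos (E.rp.wsys.wd L s)
  have key : ∀ (m : ℕ) (L : List (Fin D.rank)), (∀ k ∈ L, (k : ℕ) ∈ J) → D.nroots - (S L).card = m →
      ∃ L : List (Fin D.rank), (∀ k ∈ L, (k : ℕ) ∈ J) ∧ ∀ k : Fin D.rank, (k : ℕ) ∈ J → ¬ E.rp.wsys.Pos (E.rp.wsys.wd L (E.rp.wsys.p k)) := by
    intro m
    induction m using Nat.strong_induction_on with
    | _ m ih =>
      intro L hL hm
      by_cases hall : ∀ k : Fin D.rank, (k : ℕ) ∈ J → ¬ E.rp.wsys.Pos (E.rp.wsys.wd L (E.rp.wsys.p k))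
      · exact ⟨L, hL, hall⟩
      push Not at hall
      obtain ⟨k, hkJ, hk⟩ := hall
      have hwd : ∀ s, E.rp.wsys.wd (L ++ [k]) s = E.rp.wsys.wd L (E.rp.wsys.w k s) := by
        intro s
        rw [ChevGrp.WSys.wd_append, ChevGrp.WSys.wd_cons, ChevGrp.WSys.wd_nil, mul_one]; rfl
      have hsub : (S L).map (E.rp.wsys.w k).toEmbedding ⊆ (S (L ++ [k])).erase (E.rp.wsys.p k) := by
        intro t ht
        rw [Finset.mem_map] at ht
        obtain ⟨s, hs, rfl⟩ := ht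
        rw [Finset.mem_filter] at hs
        obtain ⟨-, h1, h2, h3⟩ := hs
        have hne : s ≠ E.rp.wsys.p k := by rintro rfl; exact h3 hk
        have hpos := E.rp.wsys.pos_w k s h1 hne
        rw [Finset.mem_erase, Finset.mem_filter]
        refine ⟨?_, Finset.mem_univ _, hpos, ?_, ?_⟩
        · intro h
          have h4 : E.rp.wsys.w k (E.rp.wsys.w k s) = E.rp.wsys.w k (E.rp.wsys.p k) := congrArg _ h
          rw [E.rp.wsys.w_w, E.rp.wsys.w_p] at h4
          have := (E.rp.wsys.pos_neg_iff (E.rp.wsys.p k)).1 (h4 ▸ h1)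
          exact this (E.rp.wsys.pos_p k)
        · rw [not_out_iff R E h1] at h2
          rw [show ((E.rp.wsys.w k).toEmbedding s) = E.rp.wsys.w k s from rfl, not_out_iff R E hpos]
          intro i hi hiJ
          have h5 : ((E.rp.wsys.w k s : Fin D.nroots) : ℕ) = D.reflectRoot k s := E.hw k s
          have hik : i ≠ k := by rintro rfl; exact hiJ hkJ
          rw [h5, R.vec_refl k k.2 s s.2, if_neg hik, sub_zero]
          exact h2 i hi hiJ
        · rw [hwd]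
          show ¬ E.rp.wsys.Pos (E.rp.wsys.wd L (E.rp.wsys.w k (E.rp.wsys.w k s)))
          rw [E.rp.wsys.w_w]; exact h3
      have hmem : E.rp.wsys.p k ∈ S (L ++ [k]) := by
        rw [Finset.mem_filter]
        refine ⟨Finset.mem_univ _, E.rp.wsys.pos_p k, ?_, ?_⟩
        · rw [not_out_iff R E (E.rp.wsys.pos_p k)]
          intro i hi hiJ
          have hik : i ≠ k := by rintro rfl; exact hiJ hkJ
          rw [p_val E, R.vec_simple k k.2, if_neg hik]
        · rw [hwd, E.rp.wsys.w_p, E.rp.wsys.W_neg (E.rp.wsys.wd_mem L), E.rp.wsys.pos_neg_iff]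
          simpa using hk
      have h1 := Finset.card_le_card hsub
      rw [Finset.card_map, Finset.card_erase_of_mem hmem] at h1
      have h2 : 0 < (S (L ++ [k])).card := Finset.card_pos.mpr ⟨_, hmem⟩
      have h3 : (S (L ++ [k])).card ≤ D.nroots := by
        have := Finset.card_le_univ (S (L ++ [k]))
        simpa using this
      refine ih (D.nroots - (S (L ++ [k])).card) (by omega) (L ++ [k]) ?_ rfl
      intro j hj
      rw [List.mem_append, List.mem_singleton] at hj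
      rcases hj with hj | rfl
      · exact hL j hj
      · exact hkJ
  obtain ⟨L, hL, h⟩ := key _ [] (by simp) rfl
  refine ⟨L, hL, fun s hs ho hpos => ?_⟩
  rw [not_out_iff R E hs] at ho
  obtain ⟨i, hi, h1⟩ := R.exists_vec_pos (E.rp.wsys.wd L s).2 ((pos_iff' R E _).1 hpos)
  rw [vec_lin R E (E.rp.wsys.wd_mem L) s i] at h1
  have h2 : ∑ k : Fin D.rank, R.vec s k * R.vec (E.rp.wsys.wd L (E.rp.wsys.p k) : Fin D.nroots) i ≤ 0 := by
    apply Finset.sum_nonpos
    intro k _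
    by_cases hkJ : (k : ℕ) ∈ J
    · have h3 := R.vec_nonneg s ((pos_iff' R E s).1 hs) s.2 k
      have h4 : R.vec (E.rp.wsys.wd L (E.rp.wsys.p k) : Fin D.nroots) i ≤ 0 := by
        apply R.vec_nonpos (Fin.is_lt _)
        have := h k hkJ
        rw [pos_iff' R E] at this
        omega
      exact mul_nonpos_of_nonneg_of_nonpos h3 h4
    · rw [ho k k.2 hkJ, zero_mul]
  omega

include R in
theorem nd_par {J : Set ℕ} {L : List (Fin D.rank)} (hL : ∀ k ∈ L, (k : ℕ) ∈ J) :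
    (ChevGrp.chev E G K).nd L ∈ D.parabolicSubgroup K J := by
  induction L with
  | nil => rw [ChevGrp.RGrp.nd_nil]; exact one_mem _
  | cons i L ih =>
    rw [ChevGrp.RGrp.nd_cons, nn_eq R G E]
    refine mul_mem (mem_sup_right (subset_closure ⟨i, hL i List.mem_cons_self, i.2, coe_nU R _ _ _⟩)) (ih fun k hk => hL k (List.mem_cons_of_mem _ hk))

include R G in
theorem pos_eq_sup (J : Set ℕ) {z : GL D.Idx K} (hz : z ∈ D.posUnipotent K) : ∃ u ∈ D.unipotentRadical K J,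
    ∃ a ∈ clo D K (fun s => D.IsPosRoot s ∧ ¬ Out D J s), z = u * a := by
  apply mem_sup_of_le_normalizer
  · refine le_trans ?_ (parabolic_le_normalizer R G J)
    refine le_trans (clo_mono (Q := D.IsPosRoot) fun s hs => hs.1) ?_
    rw [← posUnipotent_eq_clo]
    exact le_trans le_sup_left le_sup_left
  · rw [unipotentRadical_eq_clo, clo_sup]
    rw [posUnipotent_eq_clo] at hz
    refine clo_mono (fun s hs => ?_) hz
    by_cases h : D.InRootSub J s
    · exact Or.inr ⟨hs, fun h2 => h2.2 h⟩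
    · exact Or.inl ⟨hs, h⟩

include R in
theorem rad_of_conj {J : Set ℕ} {L : List (Fin D.rank)} (hL : ∀ k ∈ L, (k : ℕ) ∈ J)
    (hneg : ∀ s : Fin D.nroots, E.rp.wsys.Pos s → ¬ Out D J s → ¬ E.rp.wsys.Pos (E.rp.wsys.wd L s))
    {z : GL D.Idx K} (hz : z ∈ D.posUnipotent K)
    (h : (ChevGrp.chev E G K).nd L * z * ((ChevGrp.chev E G K).nd L)⁻¹ ∈ D.posUnipotent K) : z ∈ D.unipotentRadical K J := by
  set n := (ChevGrp.chev E G K).nd L with hn
  have hact : (ChevGrp.chev E G K).Act n (E.rp.wsys.wd L) := ChevGrp.RGrp.act_nd L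
  obtain ⟨u, hu, a, ha, rfl⟩ := pos_eq_sup R G J hz
  have h1 : n * u * n⁻¹ ∈ D.unipotentRadical K J :=
    (mem_normalizer_iff.mp (parabolic_le_normalizer R G J (nd_par R G E hL)) u).mp hu
  have h2 : n * a * n⁻¹ ∈ D.negUnipotent K := by
    have : clo D K (fun s => D.IsPosRoot s ∧ ¬ Out D J s) ≤ (D.negUnipotent K).comap (MulAut.conj n).toMonoidHom := by
      apply clo_le R (elemOfGood G K)
      rintro s ⟨hs, ho⟩ t
      show n * xr R (elemOfGood G K) s t * n⁻¹ ∈ D.negUnipotent K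
      obtain ⟨c, hc, -⟩ := conj_act R G E hact ⟨s, hs.1⟩ t
      have hc' : n * xr R (elemOfGood G K) s t * n⁻¹ = xr R (elemOfGood G K) (E.rp.wsys.wd L ⟨s, hs.1⟩ : Fin D.nroots) c := hc
      rw [hc', negUnipotent_eq_clo]
      exact xr_mem_clo R _ ((E.isNegRoot_iff _).2 (hneg ⟨s, hs.1⟩ ((E.isPosRoot_iff ⟨s, hs.1⟩).1 hs) ho)) c
    exact this ha
  have h3 : n * a * n⁻¹ ∈ D.borelSubgroup K := by
    have : n * a * n⁻¹ = (n * u * n⁻¹)⁻¹ * (n * (u * a) * n⁻¹) := by group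
    rw [this]
    exact mem_sup_left (mul_mem (inv_mem (radical_le_pos J h1)) h)
  have h4 : n * a * n⁻¹ ∈ D.borelSubgroup K ⊓ D.negUnipotent K := ⟨h3, h2⟩
  rw [(borel_inf_neg (F := K) R G).1, mem_bot] at h4
  have h5 : a = 1 := by
    have : a = n⁻¹ * (n * a * n⁻¹) * n := by group
    rw [this, h4]; group
  rw [h5, mul_one]
  exact hu

variable (φ : K →+* K)

include R G E in
/-- the centraliser in `P_J` of the rational points of the radical -/
theorem mem_rad (hc : Conn D) {J : Set ℕ} (hp : ∃ i, i < D.rank ∧ i ∉ J) {z : GL D.Idx K} (hz : z ∈ D.parabolicSubgroup K J)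
    (hcom : ∀ y ∈ D.unipotentRadical K J, sg D φ y = y → z * y = y * z) : z ∈ D.unipotentRadical K J := by
  have hU : ∀ z ∈ D.parabolicSubgroup K J, (∀ y ∈ D.unipotentRadical K J, sg D φ y = y → z * y = y * z) → z ∈ D.posUnipotent K := by
    intro z hz hcom
    apply centF_pos R G E hc hp hz
    intro s hs ho
    exact hcom _ (xr_mem_radical R G ho 1) (by rw [sg_xr R G φ, map_one])
  obtain ⟨L, hL, hneg⟩ := exists_longestJ R E J
  have hn := nd_par (K := K) R G E hL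
  refine rad_of_conj R G E hL hneg (hU z hz hcom) (hU _ (mul_mem (mul_mem hn hz) (inv_mem hn)) ?_)
  intro y hy hy1
  set n := (ChevGrp.chev E G K).nd L with hn'
  have h1 : n⁻¹ * y * n ∈ D.unipotentRadical K J := by
    have := (mem_normalizer_iff.mp (parabolic_le_normalizer R G J (inv_mem hn)) y).mp hy
    rwa [inv_inv] at this
  have h2 : sg D φ (n⁻¹ * y * n) = n⁻¹ * y * n := by
    rw [map_mul, map_mul, map_inv, sg_nd R G E φ L, hy1]
  have h3 := hcom _ h1 h2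
  calc n * z * n⁻¹ * y = n * (z * (n⁻¹ * y * n)) * n⁻¹ := by group
    _ = n * ((n⁻¹ * y * n) * z) * n⁻¹ := by rw [h3]
    _ = y * (n * z * n⁻¹) := by group

variable (𝔽 : Subfield K) {M : Subgroup (GL D.Idx K)}

include E in
/-- **`M ∩ B` consists of rational points.** -/
theorem stepB (hc : Conn D) (hr : 0 < D.rank) (h𝔽 : ∀ t, t ∈ 𝔽 ↔ φ t = t) (hMG : M ≤ D.group K) (hL : LF R G 𝔽 ≤ M)
    (hE : ∀ g ∈ M, g ∈ V R.tab (F := K) 0 → g ∈ UF R G 𝔽 0) (hE' : ∀ g, QQ R G 𝔽 M g → g ∈ V R.tab (F := K) 0 → g ∈ UF R G 𝔽 0)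
    {b : GL D.Idx K} (hbM : b ∈ M) (hb : b ∈ D.borelSubgroup K) : sg D φ b = b := by
  set z := b⁻¹ * sg D φ b with hz
  have hzB : z ∈ D.borelSubgroup K := mul_mem (inv_mem hb) (sg_borel R G φ hb)
  have hcom : ∀ y ∈ UF R G 𝔽 0, z * y = y * z := by
    intro y hy
    have h1 : b * y * b⁻¹ ∈ UF R G 𝔽 0 := hE _ (mul_mem (mul_mem hbM (hL (UF_le_LF R G 𝔽 0 hy))) (inv_mem hbM))
      (borel_V R hb (UA_le_V R G _ 0 hy) G)
    have h2 := LF_fix R G 𝔽 φ h𝔽 (UF_le_LF R G 𝔽 0 h1)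
    rw [map_mul, map_mul, map_inv, LF_fix R G 𝔽 φ h𝔽 (UF_le_LF R G 𝔽 0 hy)] at h2
    calc z * y = b⁻¹ * (sg D φ b * y * (sg D φ b)⁻¹) * sg D φ b := by rw [hz]; group
      _ = y * z := by rw [h2, hz]; group
  have hzU : z ∈ D.posUnipotent K := by
    have h1 : z ∈ D.parabolicSubgroup K ∅ := by rw [parabolic_empty]; exact hzB
    apply centF_pos R G E hc ⟨0, hr, Set.notMem_empty 0⟩ h1
    intro s hs ho
    exact hcom _ (xr_UF R G 𝔽 (Nat.zero_le _) ((R.pos_iff s hs).mp ho.1) hs (one_mem _))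
  -- write `b = h u`
  obtain ⟨u₀, hu₀, χ, hbu, hχ⟩ := borel_eq R G hb
  set h := torHom D K χ with hh
  set u := h⁻¹ * u₀ * h with hu
  have huU : u ∈ D.posUnipotent K := by
    have := (mem_normalizer_iff.mp ((borel_semidirect (F := K) R G).1 (inv_mem hχ)) u₀).mp hu₀
    rwa [inv_inv] at this
  have hb2 : b = h * u := by rw [hbu, hu]; group
  have hsh : sg D φ h = h := by
    have h1 : h⁻¹ * sg D φ h = u * z * (sg D φ u)⁻¹ := by
      rw [hz, hb2, map_mul]; group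
    have h2 : h⁻¹ * sg D φ h ∈ D.posUnipotent K ⊓ D.diagonalSubgroup K := by
      refine ⟨?_, (D.diagonalSubgroup K).mul_mem ((D.diagonalSubgroup K).inv_mem hχ) (sg_diag R G φ hχ)⟩
      rw [h1]
      exact (D.posUnipotent K).mul_mem ((D.posUnipotent K).mul_mem huU hzU) ((D.posUnipotent K).inv_mem (sg_pos R G φ huU))
    rw [(borel_semidirect R G).2, mem_bot] at h2
    rw [← mul_one (sg D φ h)]
    have : sg D φ h = h * (h⁻¹ * sg D φ h) := by group
    rw [mul_one, this, h2, mul_one]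
  have hchr : ∀ s < D.nroots, ((Chev.chr D χ s : Kˣ) : K) ∈ 𝔽 := by
    intro s hs
    rw [h𝔽]
    have h1 := torHom_conj R G χ hs (1 : K)
    have h2 := congrArg (sg D φ) h1
    rw [map_mul, map_mul, map_inv, sg_xr R G φ, sg_xr R G φ, map_one, ← hh, hsh, hh, h1] at h2
    have := xr_injective R G hs h2
    rw [mul_one] at this
    exact this.symm
  have hQ : QQ R G 𝔽 M u := by
    intro l hl
    have h1 : h * l * h⁻¹ ∈ LF R G 𝔽 := by
      have : LF R G 𝔽 ≤ (LF R G 𝔽).comap (MulAut.conj h).toMonoidHom := by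
        rw [LF, closure_le]
        rintro x ⟨s, t, hs, ht, rfl⟩
        show h * xr R (elemOfGood G K) s t * h⁻¹ ∈ LF R G 𝔽
        rw [hh, torHom_conj R G χ hs]
        exact xr_LF R G 𝔽 hs (mul_mem (hchr s hs) ht)
      exact this hl
    have h2 : u⁻¹ * l * u = b⁻¹ * (h * l * h⁻¹) * b := by rw [hb2]; group
    rw [h2]
    exact mul_mem (mul_mem (inv_mem hbM) (hL h1)) hbM
  have hu' := hE' u hQ (by rw [← pos_V R]; exact huU)
  rw [hb2, map_mul, hsh, LF_fix R G 𝔽 φ h𝔽 (UF_le_LF R G 𝔽 0 hu')]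

include E in
/-- **`M ∩ P_J` consists of rational points.** -/
theorem stepP (hc : Conn D) (h𝔽 : ∀ t, t ∈ 𝔽 ↔ φ t = t) (hMG : M ≤ D.group K) (hL : LF R G 𝔽 ≤ M)
    (hE : ∀ g ∈ M, g ∈ V R.tab (F := K) 0 → g ∈ UF R G 𝔽 0) (hE' : ∀ g, QQ R G 𝔽 M g → g ∈ V R.tab (F := K) 0 → g ∈ UF R G 𝔽 0)
    {J : Set ℕ} (hp : ∃ i, i < D.rank ∧ i ∉ J)
    {m : GL D.Idx K} (hm : m ∈ M) (hmP : m ∈ D.parabolicSubgroup K J) : sg D φ m = m := by
  set z := m⁻¹ * sg D φ m with hz
  have hzP : z ∈ D.parabolicSubgroup K J := mul_mem (inv_mem hmP) (sg_par R G φ J hmP)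
  have hzR : z ∈ D.unipotentRadical K J := by
    apply mem_rad R G E φ hc hp hzP
    intro y hy hy1
    have hyU : y ∈ UF R G 𝔽 0 := fix_V R G 𝔽 φ h𝔽 (by rw [← pos_V R]; exact radical_le_pos J hy) hy1
    have h1 : m * y * m⁻¹ ∈ D.unipotentRadical K J :=
      (mem_normalizer_iff.mp (parabolic_le_normalizer R G J hmP) y).mp hy
    have h2 := LF_fix R G 𝔽 φ h𝔽 (UF_le_LF R G 𝔽 0 (hE _ (mul_mem (mul_mem hm (hL (UF_le_LF R G 𝔽 0 hyU))) (inv_mem hm))
      (by rw [← pos_V R]; exact radical_le_pos J h1)))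
    rw [map_mul, map_mul, map_inv, hy1] at h2
    calc z * y = m⁻¹ * (sg D φ m * y * (sg D φ m)⁻¹) * sg D φ m := by rw [hz]; group
      _ = y * z := by rw [h2, hz]; group
  obtain ⟨b, hb, L, x, hx, e⟩ := bruhatL R G E (hMG hm)
  have hxU : x ∈ D.posUnipotent K := by rw [pos_V R]; exact Um_le R G E _ hx
  have hxP : x ∈ D.parabolicSubgroup K J := mem_sup_left (mem_sup_left hxU)
  set n := (ChevGrp.chev E G K).nd L with hn
  have hnP : n ∈ D.parabolicSubgroup K J := by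
    have : n = b⁻¹ * m * x⁻¹ := by rw [e]; group
    rw [this]
    exact mul_mem (mul_mem (inv_mem (mem_sup_left hb)) hmP) (inv_mem hxP)
  have h1 : x * z * x⁻¹ ∈ D.unipotentRadical K J := (mem_normalizer_iff.mp (parabolic_le_normalizer R G J hxP) z).mp hzR
  have h2 : n * (x * z * x⁻¹) * n⁻¹ ∈ D.unipotentRadical K J :=
    (mem_normalizer_iff.mp (parabolic_le_normalizer R G J hnP) _).mp h1
  have h3 : sg D φ (b * n * x) = b * n * x * z := by rw [← e, hz]; group
  obtain ⟨hx1, -⟩ := bruhat_fix R G E φ hb hx (mem_sup_left (radical_le_pos J h2)) h3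
  have hxM : x ∈ M := hL (UF_le_LF R G 𝔽 0 (fix_V R G 𝔽 φ h𝔽 (Um_le R G E _ hx) hx1))
  have hnM : n ∈ M := hL (nd_LF R G E 𝔽 L)
  have hbM : b ∈ M := by
    have : b = m * x⁻¹ * n⁻¹ := by rw [e]; group
    rw [this]
    exact mul_mem (mul_mem hm (inv_mem hxM)) (inv_mem hnM)
  obtain ⟨i, hi, -⟩ := hp
  have hb1 := stepB R G E φ 𝔽 hc (by omega) h𝔽 hMG hL hE hE' hbM hb
  rw [e, map_mul, map_mul, hx1, hb1, sg_nd R G E φ L]

end Cfsg.Agent.ChevM
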