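import Cfsg.Agent.ChevM.Rad
import Cfsg.Agent.ChevU.BTInf

set_option autoImplicit false
set_option linter.unusedSectionVars false
set_option linter.unusedVariables false

/-!
# A parabolic subgroup stable under the field endomorphism is rationally conjugate to a standard one (helper19)
-/

namespace Cfsg.Agent.ChevM

open Cfsg.Lie Matrix Subgroup Cfsg.Agent.ChevU Cfsg.Agent.Chev

variable {D : ChevalleyDatum} {K : Type*} [Field K] (R : RootFacts D) (G : Chev.Good D) (E : ChevGrp.DData D)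

include R G in
/-- the opposite radical of a dominant functional meets the parabolic subgroup trivially -/
theorem par_inf_opp {l : Fin D.rank → ℝ} (hl : Dom l) (E : ChevGrp.DData D) {v : GL D.Idx K}
    (h1 : v ∈ D.parabolicSubgroup K (zeros l)) (h2 : v ∈ clo D K (fun s => s < D.nroots ∧ Out D (zeros l) (D.neg s))) : v = 1 := by
  have h3 : v ∈ PW K (R.wt (extL D l)) := by
    rw [← stab_dom R G E hl] at h1
    exact h1.2
  have e : (fun a => - R.wt (extL D l) a) = R.wt (fun j => - extL D l j) := by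
    funext a
    rcases a with i | s
    · show -(0 : ℝ) = 0; ring
    · show - R.ev _ _ = R.ev _ _
      unfold RootFacts.ev
      rw [← Finset.sum_neg_distrib]
      refine Finset.sum_congr rfl fun j _ => ?_
      ring
  have h4 : clo D K (fun s => s < D.nroots ∧ Out D (zeros l) (D.neg s)) ≤ UW K (fun a => - R.wt (extL D l) a) := by
    rw [e]
    refine clo_le_UW R (elemOfGood G K) _ fun s hs => ⟨hs.1, ?_⟩
    have h5 := evL_pos_of_not R hl hs.2.1 hs.2.2
    rw [R.ev_neg _ hs.1] at h5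
    have h6 : R.ev (fun j => - extL D l j) s = - R.ev (extL D l) s := by
      unfold RootFacts.ev
      rw [← Finset.sum_neg_distrib]
      refine Finset.sum_congr rfl fun j _ => ?_
      ring
    rw [h6]; exact h5
  have h5 : v ∈ PW K (R.wt (extL D l)) ⊓ UW K (fun a => - R.wt (extL D l) a) := ⟨h3, h4 h2⟩
  rw [PW_inf_UW_neg, mem_bot] at h5
  exact h5

include R G E in
/-- minimal representatives -/
theorem exists_min_rep {J : Set ℕ} {g : GL D.Idx K} (hg : g ∈ D.group K) : ∃ u ∈ D.posUnipotent K, ∃ L : List (Fin D.rank),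
    ∃ p ∈ D.parabolicSubgroup K J, g = u * (ChevGrp.chev E G K).nd L * p ∧
      ∀ k : Fin D.rank, (k : ℕ) ∈ J → E.rp.wsys.Pos (E.rp.wsys.wd L (E.rp.wsys.p k)) := by
  have start : ∃ u ∈ D.posUnipotent K, ∃ L : List (Fin D.rank),
      ∃ p ∈ D.parabolicSubgroup K J, g = u * (ChevGrp.chev E G K).nd L * p := by
    obtain ⟨b, hb, L, x, hx, e⟩ := bruhatL R G E hg
    obtain ⟨u, hu, χ, rfl, hχ⟩ := borel_eq R G hb
    have h1 : ((ChevGrp.chev E G K).nd L)⁻¹ * torHom D K χ * (ChevGrp.chev E G K).nd L ∈ D.diagonalSubgroup K := by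
      have := ChevGrp.RGrp.N_conj_H' (R := ChevGrp.chev E G K) (ChevGrp.RGrp.nd_mem_N L) (h := torHom D K χ) (by rw [ChevGrp.chev_H]; exact hχ)
      rwa [ChevGrp.chev_H] at this
    have hxU : x ∈ D.posUnipotent K := by rw [pos_V R]; exact Um_le R G E _ hx
    refine ⟨u, hu, L, ((ChevGrp.chev E G K).nd L)⁻¹ * torHom D K χ * (ChevGrp.chev E G K).nd L * x,
      mem_sup_left (mul_mem (mem_sup_right h1) (mem_sup_left hxU)), ?_⟩
    rw [e]; group
  have key : ∀ (m : ℕ) (L : List (Fin D.rank)), E.rp.wsys.N (E.rp.wsys.wd L) = m → (∃ u ∈ D.posUnipotent K,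
      ∃ p ∈ D.parabolicSubgroup K J, g = u * (ChevGrp.chev E G K).nd L * p) → ∃ u ∈ D.posUnipotent K, ∃ L : List (Fin D.rank),
      ∃ p ∈ D.parabolicSubgroup K J, g = u * (ChevGrp.chev E G K).nd L * p ∧
        ∀ k : Fin D.rank, (k : ℕ) ∈ J → E.rp.wsys.Pos (E.rp.wsys.wd L (E.rp.wsys.p k)) := by
    intro m
    induction m using Nat.strong_induction_on with
    | _ m ih =>
      rintro L hL ⟨u, hu, p, hp, e⟩
      by_cases hall : ∀ k : Fin D.rank, (k : ℕ) ∈ J → E.rp.wsys.Pos (E.rp.wsys.wd L (E.rp.wsys.p k))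
      · exact ⟨u, hu, L, p, hp, e, hall⟩
      push Not at hall
      obtain ⟨k, hkJ, hk⟩ := hall
      have h1 := E.rp.wsys.N_neg (E.rp.wsys.wd_mem L) hk
      have h2 : E.rp.wsys.wd (L ++ [k]) = E.rp.wsys.wd L * E.rp.wsys.w k := by
        rw [ChevGrp.WSys.wd_append, ChevGrp.WSys.wd_cons, ChevGrp.WSys.wd_nil, mul_one]
      refine ih _ ?_ (L ++ [k]) rfl ⟨u, hu, ((ChevGrp.chev E G K).nn k)⁻¹ * p, mul_mem (inv_mem ?_) hp, ?_⟩
      · rw [h2]; omega
      · rw [nn_eq R G E]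
        exact mem_sup_right (subset_closure ⟨k, hkJ, k.2, coe_nU R _ _ _⟩)
      · rw [e, ChevGrp.RGrp.nd_append, ChevGrp.RGrp.nd_cons, ChevGrp.RGrp.nd_nil]; group
  obtain ⟨u, hu, L, p, hp, e⟩ := start
  exact key _ L rfl ⟨u, hu, p, hp, e⟩

variable (φ : K →+* K) (𝔽 : Subfield K)

include E in
/-- **rational representatives** -/
theorem exists_rat (h𝔽 : ∀ t, t ∈ 𝔽 ↔ φ t = t) {l : Fin D.rank → ℝ} (hl : Dom l) {g : GL D.Idx K} (hg : g ∈ D.group K)
    (hs : g⁻¹ * sg D φ g ∈ D.parabolicSubgroup K (zeros l)) : ∃ y ∈ LF R G 𝔽, y⁻¹ * g ∈ D.parabolicSubgroup K (zeros l) := by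
  obtain ⟨u, hu, L, p, hp, e, hpos⟩ := exists_min_rep R G E (J := zeros l) hg
  set n := (ChevGrp.chev E G K).nd L with hn
  set w := E.rp.wsys.wd L with hw
  have hwW : w ∈ E.rp.wsys.W := E.rp.wsys.wd_mem L
  have hact : (ChevGrp.chev E G K).Act n w := ChevGrp.RGrp.act_nd L
  obtain ⟨b', hb', y, hy, e1⟩ := ChevGrp.RGrp.exists_bnu (R := ChevGrp.chev E G K) hact.inv
    (inv_mem (ChevGrp.RGrp.nd_mem_N L)) (b := u⁻¹) ((ChevGrp.chev E G K).U_le_B (by rw [ChevGrp.chev_U]; exact inv_mem hu))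
  rw [ChevGrp.chev_B] at hb'
  have e2 : u * n = y⁻¹ * n * b'⁻¹ := by
    have : u * n = (n⁻¹ * u⁻¹)⁻¹ := by group
    rw [this, e1]; group
  have hyU : y ∈ V R.tab (F := K) 0 := Um_le R G E _ hy
  have hp' : b'⁻¹ * p ∈ D.parabolicSubgroup K (zeros l) := mul_mem (inv_mem (mem_sup_left hb')) hp
  have e3 : g = y⁻¹ * n * (b'⁻¹ * p) := by rw [e, e2]; group
  set q := b'⁻¹ * p with hq
  -- the key element
  have h1 : n⁻¹ * (y * (sg D φ y)⁻¹) * n ∈ D.parabolicSubgroup K (zeros l) := by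
    have : n⁻¹ * (y * (sg D φ y)⁻¹) * n = q * (g⁻¹ * sg D φ g) * (sg D φ q)⁻¹ := by
      rw [e3]
      simp only [map_mul, map_inv]
      have hsn : sg D φ n = n := sg_nd R G E φ L
      rw [hsn]; group
    rw [this]
    exact mul_mem (mul_mem hp' hs) (inv_mem (sg_par R G φ _ hp'))
  have h2 : y * (sg D φ y)⁻¹ ∈ (ChevGrp.chev E G K).Um w⁻¹ := mul_mem hy (inv_mem (sg_gen R G E φ hy))
  have h3 : n⁻¹ * (y * (sg D φ y)⁻¹) * n ∈ clo D K (fun s => s < D.nroots ∧ Out D (zeros l) (D.neg s)) := by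
    have : (ChevGrp.chev E G K).Um w⁻¹ ≤ (clo D K (fun s => s < D.nroots ∧ Out D (zeros l) (D.neg s))).comap (MulAut.conj n⁻¹).toMonoidHom := by
      rw [ChevGrp.RGrp.Um, ChevGrp.gen_le]
      rintro r ⟨hr1, hr2⟩ x hx
      rw [ChevGrp.chev_X] at hx
      obtain ⟨t, ht⟩ := (ChevGrp.Inst.mem_rootSubgroup G.toGood2 r.2).1 hx
      have ex : x = xr R (elemOfGood G K) r t := by rw [ht]; exact Units.ext rfl
      show n⁻¹ * x * n⁻¹⁻¹ ∈ clo D K (fun s => s < D.nroots ∧ Out D (zeros l) (D.neg s))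
      obtain ⟨c, hc, -⟩ := conj_act R G E hact.inv r t
      rw [ex, hc]
      refine xr_mem_clo R _ (P := fun s => s < D.nroots ∧ Out D (zeros l) (D.neg s)) ⟨Fin.is_lt _, ?_⟩ c
      -- `-w⁻¹ r` is outside
      by_contra ho
      have hneg : ((E.rp.wsys.neg (w⁻¹ r) : Fin D.nroots) : ℕ) = D.neg (w⁻¹ r : Fin D.nroots) := E.hneg _
      have hposn : E.rp.wsys.Pos (E.rp.wsys.neg (w⁻¹ r)) := by rw [E.rp.wsys.pos_neg_iff]; exact hr2
      rw [← hneg] at ho
      rw [not_out_iff R E hposn] at ho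
      have h4 : ¬ E.rp.wsys.Pos (w (E.rp.wsys.neg (w⁻¹ r))) := by
        rw [E.rp.wsys.W_neg hwW, E.rp.wsys.pos_neg_iff]
        have : w (w⁻¹ r) = r := by rw [← Equiv.Perm.mul_apply, mul_inv_cancel]; rfl
        rw [this]; simpa using hr1
      have h5 : ((w (E.rp.wsys.neg (w⁻¹ r)) : Fin D.nroots) : ℕ) < R.half := by
        rw [pos_iff' R E] at h4; omega
      obtain ⟨i, hi, h6⟩ := R.exists_vec_pos (R.neg_lt (w (E.rp.wsys.neg (w⁻¹ r))).2) (R.half_le_neg (Fin.is_lt _) h5)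
      rw [R.vec_neg' (Fin.is_lt _), vec_lin R E hwW] at h6
      have h7 : 0 ≤ ∑ k : Fin D.rank, R.vec (E.rp.wsys.neg (w⁻¹ r) : Fin D.nroots) k * R.vec (w (E.rp.wsys.p k) : Fin D.nroots) i := by
        apply Finset.sum_nonneg
        intro k _
        by_cases hkJ : (k : ℕ) ∈ zeros l
        · exact mul_nonneg (R.vec_nonneg _ ((pos_iff' R E _).1 hposn) (Fin.is_lt _) k)
            (R.vec_nonneg _ ((pos_iff' R E _).1 (hpos k hkJ)) (Fin.is_lt _) i)
        · rw [ho k k.2 hkJ, zero_mul]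
      omega
    have h4 := this h2
    have h5 : (MulAut.conj n⁻¹).toMonoidHom (y * (sg D φ y)⁻¹) = n⁻¹ * (y * (sg D φ y)⁻¹) * n := by
      show n⁻¹ * (y * (sg D φ y)⁻¹) * n⁻¹⁻¹ = _
      rw [inv_inv]
    rw [mem_comap, h5] at h4
    exact h4
  have h4 := par_inf_opp R G hl E h1 h3
  have h5 : sg D φ y = y := by
    have : y * (sg D φ y)⁻¹ = 1 := by
      have : y * (sg D φ y)⁻¹ = n * (n⁻¹ * (y * (sg D φ y)⁻¹) * n) * n⁻¹ := by group
      rw [this, h4]; group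
    rw [mul_inv_eq_one] at this
    exact this.symm
  refine ⟨y⁻¹ * n, mul_mem (inv_mem (UF_le_LF R G 𝔽 0 (fix_V R G 𝔽 φ h𝔽 hyU h5))) (nd_LF R G E 𝔽 L), ?_⟩
  have : (y⁻¹ * n)⁻¹ * g = q := by rw [e3]; group
  rw [this]; exact hp'

end Cfsg.Agent.ChevM
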