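import Cfsg.Agent.ChevM.Ext
import Cfsg.Agent.Chev.FieldAut

set_option autoImplicit false
set_option linter.unusedSectionVars false
set_option linter.unusedVariables false

/-!
# The action of a field endomorphism on a Chevalley group, the Bruhat normal form (helper19)
-/

namespace Cfsg.Agent.ChevM

open Cfsg.Lie Matrix Subgroup Cfsg.Agent.ChevU Cfsg.Agent.Chev

variable {D : ChevalleyDatum} {K : Type*} [Field K] (R : RootFacts D) (G : Chev.Good D) (E : ChevGrp.DData D) (𝔽 : Subfield K)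
  (φ : K →+* K)

/-- the endomorphism of the general linear group -/
noncomputable abbrev sg (D : ChevalleyDatum) (φ : K →+* K) : GL D.Idx K →* GL D.Idx K := glMap D.Idx φ

theorem sg_xr (s : ℕ) (t : K) : sg D φ (xr R (elemOfGood G K) s t) = xr R (elemOfGood G K) s (φ t) := by
  apply Units.ext
  rw [sg, glMap_coe, coe_xr, coe_xr, x_map]

theorem sg_inj {g h : GL D.Idx K} (e : sg D φ g = sg D φ h) : g = h := glMap_injective φ e

theorem sg_V (k : ℕ) {g : GL D.Idx K} (hg : g ∈ V R.tab (F := K) k) (G : Chev.Good D) : sg D φ g ∈ V R.tab (F := K) k := by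
  have : V R.tab (F := K) k ≤ (V R.tab (F := K) k).comap (sg D φ) := by
    rw [V, closure_le]
    rintro x ⟨s, u, h1, h2, h3, h4⟩
    rw [← eq_xu_iff R.tab (elemOfGood G K)] at h4
    subst h4
    show sg D φ (xr R (elemOfGood G K) s u) ∈ V R.tab (F := K) k
    rw [sg_xr R G φ]
    exact xr_V R G h1 h2 h3 _
  exact this hg

/-- fixed elements of the unipotent group have coordinates in the fixed field -/
theorem fix_V (h𝔽 : ∀ t, t ∈ 𝔽 ↔ φ t = t) {g : GL D.Idx K} (hg : g ∈ V R.tab (F := K) 0) (hf : sg D φ g = g) : g ∈ UF R G 𝔽 0 := by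
  refine extract R G (A := fun _ => 𝔽.toAddSubgroup) (fun g => sg D φ g = g) ?_ ?_ g hf hg
  · intro k a v hk hkn ha h
    have ha' : a ∈ 𝔽 := ha
    rw [map_mul, sg_xr R G φ, (h𝔽 a).1 ha'] at h
    exact mul_left_cancel h
  · intro k hk hkn _ a v hv h
    rw [map_mul, sg_xr R G φ] at h
    have := (eq_of_mul_eq R.tab (elemOfGood G K) hk hkn (sg_V R φ _ hv G) hv h).1
    exact (h𝔽 a).2 this

theorem LF_fix (h𝔽 : ∀ t, t ∈ 𝔽 ↔ φ t = t) {g : GL D.Idx K} (hg : g ∈ LF R G 𝔽) : sg D φ g = g := by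
  have : LF R G 𝔽 ≤ (sg D φ).eqLocus (MonoidHom.id _) := by
    rw [LF, closure_le]
    rintro x ⟨s, t, hs, ht, rfl⟩
    show sg D φ _ = _
    rw [sg_xr R G φ, (h𝔽 t).1 ht]; rfl
  exact this hg

theorem pos_V : D.posUnipotent K = V R.tab (F := K) 0 := posUnipotent_eq R.tab

include R G in
theorem sg_pos {g : GL D.Idx K} (hg : g ∈ D.posUnipotent K) : sg D φ g ∈ D.posUnipotent K := by
  rw [pos_V R] at hg ⊢
  exact sg_V R φ 0 hg G

theorem sg_tor (χ : ℕ → Kˣ) : sg D φ (torHom D K χ) = torHom D K (fun j => Units.map (φ : K →* K) (χ j)) := by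
  apply Units.ext
  rw [sg, glMap_coe, coe_torHom, coe_torHom]
  unfold Chev.tD
  rw [Matrix.diagonal_map (map_zero φ)]
  congr 1
  funext x
  rcases x with j | v
  · simp
  · simp only [Sum.elim_inr, Chev.chr, Units.coe_prod, map_prod, Function.comp]
    refine Finset.prod_congr rfl fun j _ => ?_
    rw [Units.val_zpow_eq_zpow_val, Units.val_zpow_eq_zpow_val, map_zpow₀]
    rfl

include R G in
theorem nU_LF {r : ℕ} (hr : r < D.nroots) : nU R (elemOfGood G K) r 1 ∈ LF R G 𝔽 := by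
  rw [nU_eq]
  refine mul_mem (mul_mem (xr_LF R G 𝔽 hr (one_mem _)) (xr_LF R G 𝔽 (R.neg_lt hr) ?_)) (xr_LF R G 𝔽 hr (one_mem _))
  exact neg_mem (inv_mem (one_mem _))

theorem sg_nU {r : ℕ} (t : K) : sg D φ (nU R (elemOfGood G K) r t) = nU R (elemOfGood G K) r (φ t) := by
  rw [nU_eq, nU_eq, map_mul, map_mul, sg_xr R G φ, sg_xr R G φ, map_neg, map_inv₀]

theorem sg_hU {r : ℕ} (t : K) : sg D φ (hU R (elemOfGood G K) r t) = hU R (elemOfGood G K) r (φ t) := by
  rw [hU_eq, hU_eq, map_mul, sg_nU R G φ, sg_nU R G φ, map_neg, map_one]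

include R G in
theorem sg_diag {g : GL D.Idx K} (hg : g ∈ D.diagonalSubgroup K) : sg D φ g ∈ D.diagonalSubgroup K := by
  have : D.diagonalSubgroup K ≤ (D.diagonalSubgroup K).comap (sg D φ) := by
    apply diag_le R (elemOfGood G K)
    intro r hr t ht
    show sg D φ (hU R (elemOfGood G K) r t) ∈ D.diagonalSubgroup K
    rw [sg_hU R G φ]
    exact hU_mem_diag R _ hr ((map_ne_zero φ).2 ht)
  exact this hg

include R G in
theorem sg_borel {g : GL D.Idx K} (hg : g ∈ D.borelSubgroup K) : sg D φ g ∈ D.borelSubgroup K := by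
  have : D.borelSubgroup K ≤ (D.borelSubgroup K).comap (sg D φ) :=
    sup_le (fun x hx => mem_sup_left (sg_pos R G φ hx)) (fun x hx => mem_sup_right (sg_diag R G φ hx))
  exact this hg

include R G in
theorem sg_par (J : Set ℕ) {g : GL D.Idx K} (hg : g ∈ D.parabolicSubgroup K J) : sg D φ g ∈ D.parabolicSubgroup K J := by
  have : D.parabolicSubgroup K J ≤ (D.parabolicSubgroup K J).comap (sg D φ) := by
    refine sup_le (fun x hx => mem_sup_left (sg_borel R G φ hx)) ?_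
    rw [closure_le]
    rintro x ⟨j, hj, hjr, h⟩
    rw [← eq_nU_iff R (elemOfGood G K)] at h
    subst h
    show sg D φ (nU R (elemOfGood G K) (D.simple j) 1) ∈ D.parabolicSubgroup K J
    rw [sg_nU R G φ, map_one]
    exact mem_sup_right (subset_closure ⟨j, hj, hjr, coe_nU R _ _ _⟩)
  exact this hg

theorem sg_group {g : GL D.Idx K} (hg : g ∈ D.group K) : sg D φ g ∈ D.group K := glMap_mem φ hg

/-! ### Bruhat form -/

theorem nn_eq (i : Fin D.rank) : (ChevGrp.chev E G K).nn i = nU R (elemOfGood G K) (D.simple i) 1 := by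
  rw [ChevGrp.chev_nn]
  apply Units.ext
  rfl

include R in
theorem nd_LF (L : List (Fin D.rank)) : (ChevGrp.chev E G K).nd L ∈ LF R G 𝔽 := by
  induction L with
  | nil => rw [ChevGrp.RGrp.nd_nil]; exact one_mem _
  | cons i L ih =>
    rw [ChevGrp.RGrp.nd_cons, nn_eq R G E]
    exact mul_mem (nU_LF R G 𝔽 (R.simple_lt i i.2)) ih

include R in
theorem sg_nd (L : List (Fin D.rank)) : sg D φ ((ChevGrp.chev E G K).nd L) = (ChevGrp.chev E G K).nd L := by
  induction L with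
  | nil => rw [ChevGrp.RGrp.nd_nil, map_one]
  | cons i L ih => rw [ChevGrp.RGrp.nd_cons, map_mul, ih, nn_eq R G E, sg_nU R G φ, map_one]

include R in
theorem Um_le (u : Equiv.Perm (Fin D.nroots)) : (ChevGrp.chev E G K).Um u ≤ V R.tab (F := K) 0 := by
  rw [← pos_V, ← ChevGrp.chev_U E G]
  exact ChevGrp.RGrp.Um_le_U u

include R in
theorem sg_gen {P : Fin D.nroots → Prop} {x : GL D.Idx K} (hx : x ∈ ChevGrp.gen (ChevGrp.chev E G K).X P) :
    sg D φ x ∈ ChevGrp.gen (ChevGrp.chev E G K).X P := by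
  have : ChevGrp.gen (ChevGrp.chev E G K).X P ≤ (ChevGrp.gen (ChevGrp.chev E G K).X P).comap (sg D φ) := by
    rw [ChevGrp.gen_le]
    intro r hr x hx
    rw [ChevGrp.chev_X] at hx
    obtain ⟨t, ht⟩ := (ChevGrp.Inst.mem_rootSubgroup G.toGood2 r.2).1 hx
    have e : x = xr R (elemOfGood G K) r t := by rw [ht]; exact Units.ext rfl
    show sg D φ x ∈ ChevGrp.gen (ChevGrp.chev E G K).X P
    rw [e, sg_xr R G φ]
    refine ChevGrp.mem_gen hr ?_
    rw [ChevGrp.chev_X, ChevGrp.Inst.mem_rootSubgroup G.toGood2 r.2]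
    exact ⟨φ t, Units.ext rfl⟩
  exact this hx

include R G E in
/-- the Bruhat form -/
theorem bruhatL {g : GL D.Idx K} (hg : g ∈ D.group K) : ∃ b ∈ D.borelSubgroup K, ∃ L : List (Fin D.rank),
    ∃ x ∈ (ChevGrp.chev E G K).Um (E.rp.wsys.wd L), g = b * (ChevGrp.chev E G K).nd L * x := by
  rw [← ChevGrp.chev_Grp E G] at hg
  obtain ⟨b, hb, m, hm, b', hb', rfl⟩ := ChevGrp.RGrp.exists_bnb hg
  obtain ⟨L, h, hh, rfl⟩ := ChevGrp.RGrp.exists_nd hm
  obtain ⟨b₁, hb₁, x, hx, e⟩ := ChevGrp.RGrp.exists_bnu (R := ChevGrp.chev E G K) (ChevGrp.RGrp.act_nd L)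
    (ChevGrp.RGrp.nd_mem_N L) (b := h * b') (mul_mem ((ChevGrp.chev E G K).H_le_B hh) hb')
  rw [ChevGrp.chev_B] at hb hb₁
  refine ⟨b * b₁, mul_mem hb hb₁, L, x, hx, ?_⟩
  rw [mul_assoc b, mul_assoc ((ChevGrp.chev E G K).nd L), e]; group

include R G E in
/-- uniqueness in the Bruhat form, for `g z = σ g` -/
theorem bruhat_fix {b z x : GL D.Idx K} (hb : b ∈ D.borelSubgroup K) {L : List (Fin D.rank)}
    (hx : x ∈ (ChevGrp.chev E G K).Um (E.rp.wsys.wd L))
    (hz : (ChevGrp.chev E G K).nd L * (x * z * x⁻¹) * ((ChevGrp.chev E G K).nd L)⁻¹ ∈ D.borelSubgroup K)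
    (h : sg D φ (b * (ChevGrp.chev E G K).nd L * x) = b * (ChevGrp.chev E G K).nd L * x * z) :
    sg D φ x = x ∧ sg D φ b = b * ((ChevGrp.chev E G K).nd L * (x * z * x⁻¹) * ((ChevGrp.chev E G K).nd L)⁻¹) := by
  set n := (ChevGrp.chev E G K).nd L with hn
  rw [map_mul, map_mul, sg_nd R G E φ L] at h
  have h1 : sg D φ b * n * sg D φ x = (b * (n * (x * z * x⁻¹) * n⁻¹)) * n * x := by rw [h]; group
  have := ChevGrp.RGrp.bnu_unique (R := ChevGrp.chev E G K) (ChevGrp.RGrp.act_nd L)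
    (by rw [ChevGrp.chev_B]; exact sg_borel R G φ hb) (by rw [ChevGrp.chev_B]; exact mul_mem hb hz)
    (sg_gen R G E φ hx) hx h1
  exact ⟨this.2, this.1⟩

end Cfsg.Agent.ChevM
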