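import Cfsg.Agent.ChevM.Rat
import Cfsg.Agent.ChevU.Syl

set_option autoImplicit false
set_option linter.unusedSectionVars false
set_option linter.unusedVariables false

/-!
# The rational points of a finite overgroup are strongly `p`-embedded (helper19)
-/

namespace Cfsg.Agent.ChevM

open Cfsg.Lie Matrix Subgroup Cfsg.Agent.ChevU Cfsg.Agent.Chev

variable {D : ChevalleyDatum} {K : Type*} [Field K] (R : RootFacts D) (G : Chev.Good D) (E : ChevGrp.DData D)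
variable (φ : K →+* K) (𝔽 : Subfield K) (M : Subgroup (GL D.Idx K))

/-- the situation -/
structure Sit : Prop where
  hf : ∀ t, t ∈ 𝔽 ↔ φ t = t
  MG : M ≤ D.group K
  L : LF R G 𝔽 ≤ M
  ex : ∀ g ∈ M, g ∈ V R.tab (F := K) 0 → g ∈ UF R G 𝔽 0
  ex' : ∀ g, QQ R G 𝔽 M g → g ∈ V R.tab (F := K) 0 → g ∈ UF R G 𝔽 0

variable {φ 𝔽 M}

include E in
theorem Sit.par (S : Sit R G φ 𝔽 M) (hc : Conn D) {J : Set ℕ} (hp : ∃ i, i < D.rank ∧ i ∉ J)
    {m : GL D.Idx K} (hm : m ∈ M) (hmP : m ∈ D.parabolicSubgroup K J) : sg D φ m = m :=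
  stepP R G E φ 𝔽 hc S.hf S.MG S.L S.ex S.ex' hp hm hmP

include E in
/-- normalisers in `M` of rational unipotent subgroups are rational -/
theorem Sit.norm (S : Sit R G φ 𝔽 M) (hc : Conn D) {V : Subgroup (GL D.Idx K)} (hV : V ≠ ⊥)
    (hVU : ∃ g ∈ D.group K, ∀ v ∈ V, g⁻¹ * v * g ∈ D.posUnipotent K) (hVφ : ∀ v ∈ V, sg D φ v = v)
    {y : GL D.Idx K} (hy : y ∈ M) (hyV : ∀ v, v ∈ V ↔ y * v * y⁻¹ ∈ V) : sg D φ y = y := by
  obtain ⟨g, hg, l, hl, hl0, h1, h2, -⟩ := bt_fix R G E φ hV hVU hVφ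
  obtain ⟨z, hz, h3⟩ := exists_rat R G E φ 𝔽 S.hf hl hg h2
  have h4 := h1 y (S.MG hy) hyV
  have hzM : z ∈ M := S.L hz
  have h5 : z⁻¹ * y * z ∈ D.parabolicSubgroup K (zeros l) := by
    have : z⁻¹ * y * z = (z⁻¹ * g) * (g⁻¹ * y * g) * (z⁻¹ * g)⁻¹ := by group
    rw [this]
    exact mul_mem (mul_mem h3 h4) (inv_mem h3)
  have h6 := S.par R G E hc (zeros_dom_ne hl0) (mul_mem (mul_mem (inv_mem hzM) hy) hzM) h5
  rw [map_mul, map_mul, map_inv, LF_fix R G 𝔽 φ S.hf hz] at h6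
  exact mul_left_cancel (mul_right_cancel h6)

/-! ### transfer from the subfield -/

variable (𝔽) in
/-- the inclusion of the group over the subfield -/
noncomputable abbrev io (D : ChevalleyDatum) : GL D.Idx 𝔽 →* GL D.Idx K := glMap D.Idx 𝔽.subtype

variable (𝔽) in
theorem io_xr (s : ℕ) (t : 𝔽) : io 𝔽 D (xr R (elemOfGood G 𝔽) s t) = xr R (elemOfGood G K) s (t : K) := by
  apply Units.ext
  rw [io, glMap_coe, coe_xr, coe_xr, x_map]; rfl

variable (𝔽) in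
theorem io_group : (D.group 𝔽).map (io 𝔽 D) = LF R G 𝔽 := by
  apply le_antisymm
  · rw [map_le_iff_le_comap, group_eq_clo]
    apply clo_le R (elemOfGood G 𝔽)
    intro s hs t
    show io 𝔽 D (xr R (elemOfGood G 𝔽) s t) ∈ LF R G 𝔽
    rw [io_xr R G 𝔽]
    exact xr_LF R G 𝔽 hs t.2
  · rw [LF, closure_le]
    rintro g ⟨s, t, hs, ht, rfl⟩
    refine ⟨xr R (elemOfGood G 𝔽) s ⟨t, ht⟩, ?_, io_xr R G 𝔽 s ⟨t, ht⟩⟩
    rw [group_eq_clo]
    exact xr_mem_clo R _ (P := fun r => r < D.nroots) hs _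

variable (𝔽) in
theorem io_pos : (D.posUnipotent 𝔽).map (io 𝔽 D) = UF R G 𝔽 0 := by
  apply le_antisymm
  · rw [map_le_iff_le_comap, posUnipotent_eq_clo]
    apply clo_le R (elemOfGood G 𝔽)
    intro s hs t
    show io 𝔽 D (xr R (elemOfGood G 𝔽) s t) ∈ UF R G 𝔽 0
    rw [io_xr R G 𝔽]
    exact xr_UF R G 𝔽 (Nat.zero_le _) ((R.pos_iff s hs.1).mp hs) hs.1 t.2
  · rw [UF, UA, closure_le]
    rintro g ⟨s, t, -, hh, hs, ht, rfl⟩
    have ht' : t ∈ 𝔽 := ht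
    refine ⟨xr R (elemOfGood G 𝔽) s ⟨t, ht'⟩, ?_, io_xr R G 𝔽 s ⟨t, ht'⟩⟩
    rw [posUnipotent_eq_clo]
    exact xr_mem_clo R _ (P := D.IsPosRoot) ((R.pos_iff s hs).mpr hh) _

theorem UF_pGroup [Finite 𝔽] (p : ℕ) [Fact p.Prime] [CharP K p] : IsPGroup p ↥(UF R G 𝔽 0) := by
  have : Fintype 𝔽 := Fintype.ofFinite 𝔽
  have : CharP 𝔽 p := (Subfield.charP 𝔽 p)
  rw [← io_pos R G 𝔽]
  exact (posUnipotent_isPGroup R G p).map _

include E in
/-- rational elements of `p`-power order lie in the group over the subfield -/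
theorem mem_LF [Finite 𝔽] (p : ℕ) [hp : Fact p.Prime] [CharP K p] (hf : ∀ t, t ∈ 𝔽 ↔ φ t = t) {v : GL D.Idx K}
    (hv : v ∈ D.group K) (hvφ : sg D φ v = v) {k : ℕ} (hk : v ^ p ^ k = 1) : v ∈ LF R G 𝔽 := by
  have : Fintype 𝔽 := Fintype.ofFinite 𝔽
  have : CharP 𝔽 p := (Subfield.charP 𝔽 p)
  obtain ⟨b, hb, L, x, hx, e⟩ := bruhatL R G E hv
  have h1 : sg D φ (b * (ChevGrp.chev E G K).nd L * x) = b * (ChevGrp.chev E G K).nd L * x * 1 := by rw [← e, hvφ, mul_one]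
  have h0 : (ChevGrp.chev E G K).nd L * (x * 1 * x⁻¹) * ((ChevGrp.chev E G K).nd L)⁻¹ = 1 := by group
  obtain ⟨hx1, hb1⟩ := bruhat_fix R G E φ hb hx (by rw [h0]; exact one_mem _) h1
  rw [h0, mul_one] at hb1
  obtain ⟨u, hu, χ, hbu, hχ⟩ := borel_eq R G hb
  set h := torHom D K χ with hh
  have hcomp : (sg D φ u)⁻¹ * u = sg D φ h * h⁻¹ := by
    have := hb1
    rw [hbu, map_mul] at this
    have h2 : sg D φ h * h⁻¹ = (sg D φ u)⁻¹ * (sg D φ u * sg D φ h) * h⁻¹ := by group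
    rw [h2, this]; group
  have h3 : sg D φ h * h⁻¹ ∈ D.posUnipotent K ⊓ D.diagonalSubgroup K := by
    refine ⟨?_, (D.diagonalSubgroup K).mul_mem (sg_diag R G φ hχ) ((D.diagonalSubgroup K).inv_mem hχ)⟩
    rw [← hcomp]
    exact (D.posUnipotent K).mul_mem ((D.posUnipotent K).inv_mem (sg_pos R G φ hu)) hu
  rw [(borel_semidirect R G).2, mem_bot] at h3
  have hh1 : sg D φ h = h := by rwa [mul_inv_eq_one] at h3
  have hu1 : sg D φ u = u := by
    rw [h3, inv_mul_eq_one] at hcomp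
    exact hcomp
  have huL : u ∈ LF R G 𝔽 := UF_le_LF R G 𝔽 0 (fix_V R G 𝔽 φ hf (by rw [← pos_V R]; exact hu) hu1)
  have hxL : x ∈ LF R G 𝔽 := UF_le_LF R G 𝔽 0 (fix_V R G 𝔽 φ hf (Um_le R G E _ hx) hx1)
  have hnL := nd_LF R G E 𝔽 L
  have hchr : ∀ s < D.nroots, ((Chev.chr D χ s : Kˣ) : K) ∈ 𝔽 := by
    intro s hs
    rw [hf]
    have h1 := torHom_conj R G χ hs (1 : K)
    have h2 := congrArg (sg D φ) h1
    rw [map_mul, map_mul, map_inv, sg_xr R G φ, sg_xr R G φ, map_one, ← hh, hh1, hh, h1] at h2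
    have := xr_injective R G hs h2
    rw [mul_one] at this
    exact this.symm
  have hnorm : ∀ l ∈ LF R G 𝔽, h * l * h⁻¹ ∈ LF R G 𝔽 := by
    intro l hl
    have : LF R G 𝔽 ≤ (LF R G 𝔽).comap (MulAut.conj h).toMonoidHom := by
      rw [LF, closure_le]
      rintro x ⟨s, t, hs, ht, rfl⟩
      show h * xr R (elemOfGood G K) s t * h⁻¹ ∈ LF R G 𝔽
      rw [hh, torHom_conj R G χ hs]
      exact xr_LF R G 𝔽 hs (mul_mem (hchr s hs) ht)
    exact this hl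
  -- `v = l h`
  obtain ⟨l, hl, hvl⟩ : ∃ l ∈ LF R G 𝔽, v = l * h := by
    refine ⟨u * (h * ((ChevGrp.chev E G K).nd L * x) * h⁻¹), mul_mem huL (hnorm _ (mul_mem hnL hxL)), ?_⟩
    rw [e, hbu]; group
  have hpow : ∀ m : ℕ, ∃ l ∈ LF R G 𝔽, v ^ m = l * h ^ m := by
    intro m
    induction m with
    | zero => exact ⟨1, one_mem _, by simp⟩
    | succ m ih =>
      obtain ⟨l', hl', e'⟩ := ih
      refine ⟨l * (h * l' * h⁻¹), mul_mem hl (hnorm _ hl'), ?_⟩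
      rw [pow_succ', e', hvl, pow_succ']; group
  have hQ : h ^ (Fintype.card 𝔽 - 1) = 1 := by
    rw [hh, ← map_pow, ← map_one (torHom D K)]
    apply torHom_congr
    intro j hj
    have h2 := hchr (D.simple j) (R.simple_lt j hj)
    rw [chr_simple G χ hj] at h2
    have h4 : (⟨((χ j : Kˣ) : K), h2⟩ : 𝔽) ≠ 0 := by
      intro h0
      exact (χ j).ne_zero (congrArg Subtype.val h0)
    have h3 := FiniteField.pow_card_sub_one_eq_one (⟨((χ j : Kˣ) : K), h2⟩ : 𝔽) h4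
    rw [Pi.pow_apply, Pi.one_apply]
    apply Units.ext
    have := congrArg (fun y : 𝔽 => (y : K)) h3
    simpa using this
  obtain ⟨l', hl', e'⟩ := hpow (Fintype.card 𝔽 - 1)
  rw [hQ, mul_one] at e'
  obtain ⟨n, -, hn⟩ := FiniteField.card 𝔽 p
  have hcop : Nat.Coprime (p ^ k) (Fintype.card 𝔽 - 1) := by
    apply Nat.Coprime.pow_left
    rw [hp.out.coprime_iff_not_dvd]
    intro hd
    have h3 : p ∣ Fintype.card 𝔽 := by rw [hn]; exact dvd_pow_self p n.ne_zero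
    have h4 : Fintype.card 𝔽 - 1 + 1 = Fintype.card 𝔽 := Nat.sub_add_cancel Fintype.card_pos
    rw [← h4] at h3
    exact hp.out.one_lt.ne' (Nat.dvd_one.mp ((Nat.dvd_add_right hd).mp h3))
  have h5 : v ^ (Fintype.card 𝔽 - 1) ∈ LF R G 𝔽 := e' ▸ hl'
  -- Bezout
  have h6 : (Nat.gcdA (p ^ k) (Fintype.card 𝔽 - 1) : ℤ) * (p ^ k : ℕ) + Nat.gcdB (p ^ k) (Fintype.card 𝔽 - 1) * (Fintype.card 𝔽 - 1 : ℕ) = 1 := by
    have := Nat.gcd_eq_gcd_ab (p ^ k) (Fintype.card 𝔽 - 1)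
    rw [hcop] at this
    push_cast at this ⊢
    linarith
  have h7 : v = (v ^ p ^ k) ^ (Nat.gcdA (p ^ k) (Fintype.card 𝔽 - 1)) * (v ^ (Fintype.card 𝔽 - 1)) ^ (Nat.gcdB (p ^ k) (Fintype.card 𝔽 - 1)) := by
    rw [← zpow_natCast, ← zpow_natCast, ← _root_.zpow_mul, ← _root_.zpow_mul, ← _root_.zpow_add, mul_comm ((p ^ k : ℕ) : ℤ), mul_comm ((Fintype.card 𝔽 - 1 : ℕ) : ℤ), h6, _root_.zpow_one]
  rw [h7, hk, _root_.one_zpow, one_mul]
  exact zpow_mem h5 _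

include E in
/-- rational `p`-subgroups are rationally conjugate into `U` -/
theorem p_conj [Finite 𝔽] (p : ℕ) [hp : Fact p.Prime] [CharP K p] (hf : ∀ t, t ∈ 𝔽 ↔ φ t = t) {V : Subgroup (GL D.Idx K)}
    (hV : V ≤ D.group K) (hVφ : ∀ v ∈ V, sg D φ v = v) (hVp : IsPGroup p ↥V) : ∃ g ∈ LF R G 𝔽, ∀ v ∈ V, g⁻¹ * v * g ∈ UF R G 𝔽 0 := by
  have : Fintype 𝔽 := Fintype.ofFinite 𝔽
  have : CharP 𝔽 p := (Subfield.charP 𝔽 p)
  have h1 : V ≤ LF R G 𝔽 := by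
    intro v hv
    obtain ⟨k, hk⟩ := hVp ⟨v, hv⟩
    exact mem_LF R G E p hf (hV hv) (hVφ v hv) (k := k) (by simpa using congrArg Subtype.val hk)
  have hinj : Function.Injective (io 𝔽 D) := glMap_injective _
  have h2 : V.comap (io 𝔽 D) ≤ D.group 𝔽 := by
    intro g hg
    have h3 := h1 hg
    rw [← io_group R G 𝔽] at h3
    obtain ⟨g', hg', e⟩ := h3
    rw [← hinj e]; exact hg'
  obtain ⟨g, hg, h3⟩ := exists_conj_le_pos R G E p h2 (hVp.comap_of_injective _ hinj)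
  refine ⟨io 𝔽 D g, by rw [← io_group R G 𝔽]; exact mem_map_of_mem _ hg, fun v hv => ?_⟩
  have h4 := h1 hv
  rw [← io_group R G 𝔽] at h4
  obtain ⟨v', hv', e⟩ := h4
  have h5 := h3 v' (show io 𝔽 D v' ∈ V by rw [e]; exact hv)
  rw [← io_pos R G 𝔽]
  refine ⟨_, h5, ?_⟩
  rw [map_mul, map_mul, map_inv, e]

include E in
/-- nontrivial rational `p`-subgroups have rational normalisers in `M` -/
theorem Sit.pnorm (S : Sit R G φ 𝔽 M) (hc : Conn D) [Finite 𝔽] (p : ℕ) [hp : Fact p.Prime] [CharP K p] {V : Subgroup (GL D.Idx K)}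
    (hV : V ≠ ⊥) (hVM : V ≤ M) (hVφ : ∀ v ∈ V, sg D φ v = v) (hVp : IsPGroup p ↥V)
    {y : GL D.Idx K} (hy : y ∈ M) (hyV : ∀ v, v ∈ V ↔ y * v * y⁻¹ ∈ V) : sg D φ y = y := by
  obtain ⟨g, hg, h1⟩ := p_conj R G E p S.hf (hVM.trans S.MG) hVφ hVp
  refine S.norm R G E hc hV ⟨g, S.MG (S.L hg), fun v hv => ?_⟩ hVφ hy hyV
  rw [pos_V R]
  exact UA_le_V R G _ 0 (h1 v hv)

include E in
/-- centralisers in `M` of rational elements of order `p` are rational -/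
theorem Sit.cent (S : Sit R G φ 𝔽 M) (hc : Conn D) [Finite 𝔽] (p : ℕ) [hp : Fact p.Prime] [CharP K p] {x : GL D.Idx K}
    (hx1 : x ≠ 1) (hxM : x ∈ M) (hxφ : sg D φ x = x) {k : ℕ} (hk : x ^ p ^ k = 1)
    {y : GL D.Idx K} (hy : y ∈ M) (hyx : y * x = x * y) : sg D φ y = y := by
  refine S.pnorm R G E hc p (V := zpowers x) ?_ (by rw [zpowers_le]; exact hxM) ?_ ?_ hy ?_
  · rw [ne_eq, zpowers_eq_bot]; exact hx1
  · rintro v ⟨i, rfl⟩
    show sg D φ (x ^ i) = x ^ i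
    rw [map_zpow, hxφ]
  · rintro ⟨v, i, rfl⟩
    refine ⟨k, Subtype.ext ?_⟩
    show (x ^ i) ^ p ^ k = 1
    rw [← _root_.zpow_natCast, ← _root_.zpow_mul, mul_comm, _root_.zpow_mul, _root_.zpow_natCast, hk, _root_.one_zpow]
  · intro v
    have hcomm : ∀ i : ℤ, y * x ^ i * y⁻¹ = x ^ i := by
      intro i
      have : Commute y (x ^ i) := (show Commute y x from hyx).zpow_right i
      rw [this.eq, mul_inv_cancel_right]
    constructor
    · rintro ⟨i, rfl⟩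
      exact ⟨i, (hcomm i).symm⟩
    · rintro ⟨i, hi⟩
      refine ⟨i, ?_⟩
      have hi' : x ^ i = y * v * y⁻¹ := hi
      have : v = y⁻¹ * (y * v * y⁻¹) * y := by group
      show x ^ i = v
      rw [this, ← hi']
      have h2 := hcomm i
      rw [mul_inv_eq_iff_eq_mul] at h2
      rw [mul_assoc, ← h2]; group

include E in
/-- **Strong embedding**: an element of `M` conjugating the central root element to a rational element is rational. -/
theorem Sit.se (S : Sit R G φ 𝔽 M) (hc : Conn D) [Finite 𝔽] (p : ℕ) [hp : Fact p.Prime] [CharP K p] {x : GL D.Idx K}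
    (hx1 : x ≠ 1) (hxU : x ∈ UF R G 𝔽 0) (hxc : ∀ y ∈ UF R G 𝔽 0, y * x = x * y)
    {m : GL D.Idx K} (hm : m ∈ M) (hmx : sg D φ (m * x * m⁻¹) = m * x * m⁻¹) : sg D φ m = m := by
  have hfin : Finite ↥(UF R G 𝔽 0) := by
    have : Fintype 𝔽 := Fintype.ofFinite 𝔽
    rw [← io_pos R G 𝔽]
    have : Finite (GL D.Idx 𝔽) := inferInstance
    exact (Set.toFinite ((io 𝔽 D) '' (D.posUnipotent 𝔽 : Set (GL D.Idx 𝔽)))).to_subtype
  have hxM : x ∈ M := S.L (UF_le_LF R G 𝔽 0 hxU)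
  obtain ⟨k, hk⟩ := UF_pGroup R G (𝔽 := 𝔽) p ⟨x, hxU⟩
  have hk' : x ^ p ^ k = 1 := by simpa using congrArg Subtype.val hk
  set y := m * x * m⁻¹ with hy
  have hyM : y ∈ M := mul_mem (mul_mem hm hxM) (inv_mem hm)
  have hy1 : y ≠ 1 := by
    intro h
    apply hx1
    have : x = m⁻¹ * y * m := by rw [hy]; group
    rw [this, h]; group
  have hyk : y ^ p ^ k = 1 := by rw [hy, conj_pow, hk']; group
  set V₁ := (UF R G 𝔽 0).map (MulAut.conj m).toMonoidHom with hV₁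
  have hV₁φ : ∀ v ∈ V₁, v ∈ M ∧ sg D φ v = v := by
    rintro v ⟨u, hu, rfl⟩
    have huM : u ∈ M := S.L (UF_le_LF R G 𝔽 0 hu)
    have h1 : (MulAut.conj m).toMonoidHom u = m * u * m⁻¹ := rfl
    rw [h1]
    have h2 : m * u * m⁻¹ ∈ M := mul_mem (mul_mem hm huM) (inv_mem hm)
    refine ⟨h2, S.cent R G E hc p hy1 hyM hmx hyk h2 ?_⟩
    calc m * u * m⁻¹ * y = m * (u * x) * m⁻¹ := by rw [hy]; group
      _ = m * (x * u) * m⁻¹ := by rw [hxc u hu]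
      _ = y * (m * u * m⁻¹) := by rw [hy]; group
  obtain ⟨g, hg, h1⟩ := p_conj R G E p S.hf (V := V₁) (fun v hv => S.MG (hV₁φ v hv).1) (fun v hv => (hV₁φ v hv).2)
    ((UF_pGroup R G p).map _)
  set w := g⁻¹ * m with hw
  have hwU : ∀ u ∈ UF R G 𝔽 0, w * u * w⁻¹ ∈ UF R G 𝔽 0 := by
    intro u hu
    have := h1 _ (mem_map_of_mem _ hu)
    have e : g⁻¹ * (MulAut.conj m).toMonoidHom u * g = w * u * w⁻¹ := by
      show g⁻¹ * (m * u * m⁻¹) * g = _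
      rw [hw]; group
    rwa [e] at this
  have hmap : (UF R G 𝔽 0).map (MulAut.conj w).toMonoidHom = UF R G 𝔽 0 := by
    apply Subgroup.eq_of_le_of_card_ge
    · rintro v ⟨u, hu, rfl⟩
      exact hwU u hu
    · rw [Subgroup.card_map_of_injective (MulAut.conj w).injective]
  have hgM : g ∈ M := S.L hg
  have hwφ : sg D φ w = w := by
    refine S.pnorm R G E hc p (V := UF R G 𝔽 0) ?_ ((UF_le_LF R G 𝔽 0).trans S.L) (fun v hv => LF_fix R G 𝔽 φ S.hf (UF_le_LF R G 𝔽 0 hv))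
      (UF_pGroup R G p) (mul_mem (inv_mem hgM) hm) ?_
    · intro h
      rw [h, mem_bot] at hxU
      exact hx1 hxU
    · intro v
      refine ⟨hwU v, fun hv => ?_⟩
      rw [← hmap] at hv
      obtain ⟨u, hu, e⟩ := hv
      have e' : w * u * w⁻¹ = w * v * w⁻¹ := e
      have : u = v := mul_left_cancel (mul_right_cancel e')
      rw [← this]; exact hu
  have : m = g * w := by rw [hw]; group
  rw [this, map_mul, hwφ, LF_fix R G 𝔽 φ S.hf hg]

end Cfsg.Agent.ChevM
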