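import Cfsg.Agent.ChevM.End

set_option autoImplicit false
set_option linter.unusedSectionVars false
set_option linter.unusedVariables false

/-!
# The end of the proof in characteristic two (helper19)
-/

namespace Cfsg.Agent.ChevM

open Cfsg.Lie Matrix Subgroup Cfsg.Agent.ChevU Cfsg.Agent.Chev

/-- two non-conjugate involutions in a finite group commute with a common involution -/
theorem dihedral_two {Γ : Type*} [Group Γ] [Finite Γ] {x y : Γ} (hx : x * x = 1) (hy : y * y = 1) (hc : ∀ g : Γ, g * x * g⁻¹ ≠ y) :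
    ∃ z : Γ, z ≠ 1 ∧ z * z = 1 ∧ z * x = x * z ∧ z * y = y * z := by
  have hxi : x⁻¹ = x := by rw [inv_eq_iff_mul_eq_one]; exact hx
  have hyi : y⁻¹ = y := by rw [inv_eq_iff_mul_eq_one]; exact hy
  set g := x * y with hg
  have hgi : g⁻¹ = y * x := by rw [hg, _root_.mul_inv_rev, hxi, hyi]
  have hxg : ∀ k : ℕ, x * g ^ k * x⁻¹ = (g⁻¹) ^ k := by
    intro k
    rw [← conj_pow]
    congr 1
    rw [hgi, hg, hxi, ← mul_assoc, hx, one_mul]
  have hyg : ∀ k : ℕ, y * g ^ k * y⁻¹ = (g⁻¹) ^ k := by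
    intro k
    rw [← conj_pow]
    congr 1
    rw [hgi, hg, hyi, mul_assoc, mul_assoc, hy, mul_one]
  have hn : g ^ orderOf g = 1 := pow_orderOf_eq_one g
  have hpos : 0 < orderOf g := orderOf_pos g
  rcases Nat.even_or_odd' (orderOf g) with ⟨k, hk | hk⟩
  · have hk0 : 0 < k := by omega
    have hz : g ^ k * g ^ k = 1 := by rw [← pow_add, ← two_mul, ← hk, hn]
    have hzi : (g⁻¹) ^ k = g ^ k := by
      rw [inv_pow, inv_eq_iff_mul_eq_one]; exact hz
    refine ⟨g ^ k, ?_, hz, ?_, ?_⟩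
    · intro h
      have := orderOf_dvd_of_pow_eq_one h
      have := Nat.le_of_dvd hk0 this
      omega
    · have := hxg k
      rw [hzi, mul_inv_eq_iff_eq_mul] at this
      exact this.symm
    · have := hyg k
      rw [hzi, mul_inv_eq_iff_eq_mul] at this
      exact this.symm
  · exfalso
    apply hc (g ^ k)
    have h1 : x * (g ^ k)⁻¹ = g ^ k * x := by
      have h2 := congrArg (·⁻¹) (hxg k)
      simp only [inv_pow, inv_inv] at h2
      calc x * (g ^ k)⁻¹ = (x * g ^ k * x⁻¹)⁻¹ * x := by group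
        _ = g ^ k * x := by rw [h2]
    have h3 : g ^ k * g ^ k = g⁻¹ := by
      apply eq_inv_of_mul_eq_one_left
      rw [← pow_add, ← two_mul, ← pow_succ, ← hk, hn]
    calc g ^ k * x * (g ^ k)⁻¹ = g ^ k * (x * (g ^ k)⁻¹) := by group
      _ = g ^ k * g ^ k * x := by rw [h1]; group
      _ = y := by rw [h3, hgi, mul_assoc, hx, mul_one]

variable {D : ChevalleyDatum} {K : Type*} [Field K] (R : RootFacts D) (G : Chev.Good D) (E : ChevGrp.DData D)
variable {φ : K →+* K} {𝔽 : Subfield K} {M : Subgroup (GL D.Idx K)}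

theorem xr_pow_char (p : ℕ) [CharP K p] (s : ℕ) (t : K) : (xr R (elemOfGood G K) s t) ^ p = 1 := by
  rw [← xr_zero R (elemOfGood G K) s]
  have : ∀ n : ℕ, (xr R (elemOfGood G K) s t) ^ n = xr R (elemOfGood G K) s (n * t) := by
    intro n
    induction n with
    | zero => rw [pow_zero, Nat.cast_zero, zero_mul, xr_zero]
    | succ n ih => rw [pow_succ, ih, xr_add]; congr 1; push_cast; ring
  rw [this, CharP.cast_eq_zero, zero_mul]

include E in
theorem two_end (S : Sit R G φ 𝔽 M) (hc : Conn D) (hn : 0 < D.nroots) [Finite 𝔽] [CharP K 2] [Finite ↥M] {c : GL D.Idx K}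
    (hcL : c ∈ LF R G 𝔽) (hc2 : c * c = 1) (hc1 : c ≠ 1)
    (hnc : ∀ g ∈ D.group K, g * xr R (elemOfGood G K) (D.nroots - 1) 1 * g⁻¹ ≠ c) : ∀ m ∈ M, sg D φ m = m := by
  intro m hm
  have hh : R.half ≤ D.nroots - 1 := by have := R.n_eq; omega
  have : Fact (Nat.Prime 2) := ⟨Nat.prime_two⟩
  set x := xr R (elemOfGood G K) (D.nroots - 1) 1 with hx
  have hxL : x ∈ LF R G 𝔽 := xr_LF R G 𝔽 (by omega) (one_mem _)
  have hxU : x ∈ UF R G 𝔽 0 := xr_UF R G 𝔽 (Nat.zero_le _) hh (by omega) (one_mem _)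
  have hx1 : x ≠ 1 := xr_ne_one R G (by omega) one_ne_zero
  have hxx : x * x = 1 := by rw [← pow_two]; exact xr_pow_char R G 2 _ _
  refine S.se R G E hc 2 hx1 hxU (fun y hy => high_central R G hn (UA_le_V R G _ 0 hy) 1) hm ?_
  set y := m * x * m⁻¹ with hy
  have hxM : x ∈ M := S.L hxL
  have hyM : y ∈ M := mul_mem (mul_mem hm hxM) (inv_mem hm)
  have hyy : y * y = 1 := by rw [hy]; calc m * x * m⁻¹ * (m * x * m⁻¹) = m * (x * x) * m⁻¹ := by group
    _ = 1 := by rw [hxx]; group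
  obtain ⟨z, hz1, hz2, hz3, hz4⟩ := dihedral_two (Γ := ↥M) (x := ⟨y, hyM⟩) (y := ⟨c, S.L hcL⟩) (Subtype.ext hyy) (Subtype.ext hc2)
    (by
      rintro ⟨g, hg⟩ h
      have h1 : g * y * g⁻¹ = c := congrArg Subtype.val h
      apply hnc (g * m) (mul_mem (S.MG hg) (S.MG hm))
      rw [← h1, hy]; group)
  have hzy : z.1 * y = y * z.1 := congrArg Subtype.val hz3
  have hzc : z.1 * c = c * z.1 := congrArg Subtype.val hz4
  have hzz : z.1 * z.1 = 1 := congrArg Subtype.val hz2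
  have hzφ : sg D φ z.1 = z.1 := S.cent R G E hc 2 hc1 (S.L hcL) (LF_fix R G 𝔽 φ S.hf hcL) (k := 1) (by rw [pow_one, pow_two, hc2]) z.2 hzc
  exact S.cent R G E hc 2 (fun h => hz1 (Subtype.ext h)) z.2 hzφ (k := 1) (by rw [pow_one, pow_two, hzz]) hyM hzy.symm

end Cfsg.Agent.ChevM
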