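import Cfsg.Agent.ChevM.Lead

set_option autoImplicit false
set_option linter.unusedSectionVars false
set_option linter.unusedVariables false

/-!
# Subgroups of the unipotent group given by additive subgroups of parameters (helper19)
-/

namespace Cfsg.Agent.ChevM

open Cfsg.Lie Matrix Subgroup Cfsg.Agent.ChevU

variable {D : ChevalleyDatum} {K : Type*} [Field K] (R : RootFacts D) (G : Chev.Good D) (A : ℕ → AddSubgroup K)

/-- products of positive root elements of index at least `k` with parameters in `A` -/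
def UA (k : ℕ) : Subgroup (GL D.Idx K) :=
  closure {g | ∃ (s : ℕ) (t : K), k ≤ s ∧ R.half ≤ s ∧ s < D.nroots ∧ t ∈ A s ∧ g = xr R (elemOfGood G K) s t}

/-- the parameters are closed under the commutator formula -/
def AC : Prop := ∀ r s, R.half ≤ r → r < D.nroots → R.half ≤ s → s < D.nroots → s ≠ r → ∀ t ∈ A r, ∀ u ∈ A s,
  ∀ c ∈ D.commTerms r s, (c.2.1 : K) * (-t) ^ c.2.2.1 * u ^ c.2.2.2 ∈ A c.1

variable {A}

theorem xr_UA {k s : ℕ} (hk : k ≤ s) (hh : R.half ≤ s) (hs : s < D.nroots) {t : K} (ht : t ∈ A s) :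
    xr R (elemOfGood G K) s t ∈ UA R G A k := subset_closure ⟨s, t, hk, hh, hs, ht, rfl⟩

variable (A)

theorem UA_le_V (k : ℕ) : UA R G A k ≤ V R.tab (F := K) k := by
  rw [UA, closure_le]
  rintro g ⟨s, t, h1, h2, h3, -, rfl⟩
  exact xr_V R G h1 h2 h3 t

theorem UA_mono {k l : ℕ} (h : k ≤ l) : UA R G A l ≤ UA R G A k := by
  rw [UA, closure_le]
  rintro g ⟨s, t, h1, h2, h3, h4, rfl⟩
  exact xr_UA R G (h.trans h1) h2 h3 h4

variable {A}

theorem UA_normalized (hA : AC R A) (k : ℕ) : UA R G A 0 ≤ normalizer (UA R G A k : Set (GL D.Idx K)) := by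
  apply closure_le_normalizer
  · rintro g ⟨s, u, h1, h2, h3, h4, rfl⟩
    exact ⟨s, -u, h1, h2, h3, neg_mem h4, by rw [xu_inv]⟩
  · rintro g ⟨r, t, -, h2, h3, h4, rfl⟩ a ⟨s, u, h5, h6, h7, h8, rfl⟩
    by_cases hne : s = r
    · subst hne
      rw [xu_inv, mul_assoc, xu_add, xu_add]
      exact xr_UA R G h5 h6 h7 (add_mem (neg_mem h4) (add_mem h8 h4))
    · have hneg : s ≠ D.neg r := by
        rw [R.tab.neg_val h3]
        have := R.n_eq
        omega
      rw [conj_xu R.tab (elemOfGood G K) h3 h7 hne hneg]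
      refine mul_mem (xr_UA R G h5 h6 h7 h8) ?_
      apply wu_mem
      intro p hp
      obtain ⟨c, hc, rfl⟩ := List.mem_map.mp hp
      obtain ⟨q1, q2, q3, q4⟩ := commT_lt R.tab h3 h7 h2 h6 hne c hc
      have q2' : R.half ≤ c.1 := q2
      exact xr_UA R G (by omega) q2' q1 (hA r s h2 h3 h6 h7 hne t h4 u h8 c hc)

theorem exists_mul_of_mem_UA (hA : AC R A) {k : ℕ} (hk : R.half ≤ k) (hkn : k < D.nroots) {g : GL D.Idx K} (hg : g ∈ UA R G A k) :
    ∃ t ∈ A k, ∃ v ∈ UA R G A (k + 1), g = xr R (elemOfGood G K) k t * v := by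
  unfold UA at hg
  induction hg using closure_induction with
  | mem x hx =>
    obtain ⟨s, u, h1, h2, h3, h4, rfl⟩ := hx
    rcases Nat.eq_or_lt_of_le h1 with h5 | h5
    · subst h5
      exact ⟨u, h4, 1, one_mem _, by rw [mul_one]⟩
    · exact ⟨0, zero_mem _, _, xr_UA R G h5 h2 h3 h4, by rw [xr_zero, one_mul]⟩
  | one => exact ⟨0, zero_mem _, 1, one_mem _, by rw [xr_zero, one_mul]⟩
  | mul x y _ _ hx hy =>
    obtain ⟨t, ht, v, hv, rfl⟩ := hx
    obtain ⟨t', ht', v', hv', rfl⟩ := hy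
    refine ⟨t + t', add_mem ht ht', (xr R (elemOfGood G K) k t')⁻¹ * v * xr R (elemOfGood G K) k t' * v', mul_mem ?_ hv', ?_⟩
    · have h1 : (xr R (elemOfGood G K) k t')⁻¹ ∈ UA R G A 0 := inv_mem (xr_UA R G (Nat.zero_le k) hk hkn ht')
      have := (mem_normalizer_iff.mp (UA_normalized R G hA (k + 1) h1) v).mp hv
      rwa [inv_inv] at this
    · rw [← xr_add]
      simp only [mul_assoc, mul_inv_cancel_left]
  | inv x _ hx =>
    obtain ⟨t, ht, v, hv, rfl⟩ := hx
    refine ⟨-t, neg_mem ht, xr R (elemOfGood G K) k t * v⁻¹ * (xr R (elemOfGood G K) k t)⁻¹, ?_, ?_⟩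
    · have h1 : xr R (elemOfGood G K) k t ∈ UA R G A 0 := xr_UA R G (Nat.zero_le k) hk hkn ht
      exact (mem_normalizer_iff.mp (UA_normalized R G hA (k + 1) h1) v⁻¹).mp (inv_mem hv)
    · rw [← xr_inv]
      simp only [mul_assoc, _root_.mul_inv_rev, inv_mul_cancel_left]

/-- the leading coordinate of an element of `UA` is in `A` -/
theorem lead_of_UA (hA : AC R A) {k : ℕ} (hk : R.half ≤ k) (hkn : k < D.nroots) {a : K} {v : GL D.Idx K} (hv : v ∈ V R.tab (F := K) (k + 1))
    (h : xr R (elemOfGood G K) k a * v ∈ UA R G A k) : a ∈ A k ∧ v ∈ UA R G A (k + 1) := by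
  obtain ⟨t, ht, v', hv', e⟩ := exists_mul_of_mem_UA R G hA hk hkn h
  have := eq_of_mul_eq R.tab (elemOfGood G K) hk hkn hv (UA_le_V R G A _ hv') e
  rw [this.1, this.2]; exact ⟨ht, hv'⟩

/-- membership in `UA 0` and in `V k` -/
theorem UA_of_V (hA : AC R A) : ∀ (j k : ℕ), R.half + j = k → k ≤ D.nroots → ∀ g ∈ UA R G A 0, g ∈ V R.tab (F := K) k → g ∈ UA R G A k := by
  intro j
  induction j with
  | zero =>
    intro k hk _ g hg _
    have hk' : R.half = k := by omega
    unfold UA at hg ⊢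
    refine closure_mono ?_ hg
    rintro x ⟨s, t, h1, h2, h3, h4, rfl⟩
    exact ⟨s, t, by omega, h2, h3, h4, rfl⟩
  | succ j ih =>
    intro k hk hkn g hg hgV
    have h1 := ih (k - 1) (by omega) (by omega) g hg (V_mono R.tab (by omega) hgV)
    obtain ⟨t, ht, v, hv, e⟩ := exists_mul_of_mem_UA R G hA (k := k - 1) (by omega) (by omega) h1
    have hk1 : k - 1 + 1 = k := by omega
    rw [hk1] at hv
    have h2 : xr R (elemOfGood G K) (k - 1) 0 * g = xr R (elemOfGood G K) (k - 1) t * v := by rw [xr_zero, one_mul, e]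
    have h3 := eq_of_mul_eq R.tab (elemOfGood G K) (k := k - 1) (by show R.half ≤ _; omega) (by omega)
      (by rw [hk1]; exact hgV) (by rw [hk1]; exact UA_le_V R G A _ hv) h2
    rw [h3.2]
    exact hv

/-- the leading coordinate, from membership in `UA 0` -/
theorem lead_of_UA0 (hA : AC R A) {k : ℕ} (hk : R.half ≤ k) (hkn : k < D.nroots) {a : K} {v : GL D.Idx K} (hv : v ∈ V R.tab (F := K) (k + 1))
    (h : xr R (elemOfGood G K) k a * v ∈ UA R G A 0) : a ∈ A k ∧ v ∈ UA R G A (k + 1) :=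
  lead_of_UA R G hA hk hkn hv (UA_of_V R G hA (k - R.half) k (by omega) hkn.le _ h
    (mul_mem (xr_V R G le_rfl hk hkn _) (V_mono R.tab (Nat.le_succ k) hv)))

/-- **Extraction.** -/
theorem extract (P : GL D.Idx K → Prop) (hP : ∀ k a v, R.half ≤ k → k < D.nroots → a ∈ A k → P (xr R (elemOfGood G K) k a * v) → P v)
    (hloc : ∀ k, R.half ≤ k → k < D.nroots → (∀ g, P g → g ∈ V R.tab (F := K) (k + 1) → g ∈ UA R G A 0) →
      ∀ a : K, ∀ v ∈ V R.tab (F := K) (k + 1), P (xr R (elemOfGood G K) k a * v) → a ∈ A k) :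
    ∀ g, P g → g ∈ V R.tab (F := K) 0 → g ∈ UA R G A 0 := by
  have key : ∀ (j k : ℕ), k + j = D.nroots → R.half ≤ k → ∀ g, P g → g ∈ V R.tab (F := K) k → g ∈ UA R G A 0 := by
    intro j
    induction j with
    | zero =>
      intro k hk _ g _ hg
      rw [V_top R.tab (by omega)] at hg
      rw [mem_bot.mp hg]; exact one_mem _
    | succ j ih =>
      intro k hk hhk g hPg hg
      have hkn : k < D.nroots := by omega
      obtain ⟨a, v, hv, rfl⟩ := exists_mul_of_mem_V R.tab (elemOfGood G K) hhk hkn hg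
      have ha := hloc k hhk hkn (ih (k + 1) (by omega) (by omega)) a v hv hPg
      exact mul_mem (xr_UA R G (Nat.zero_le _) hhk hkn ha) (ih (k + 1) (by omega) (by omega) v (hP k a v hhk hkn ha hPg) hv)
  intro g hPg hg
  have := V_half R.tab (F := K) (k := R.half) le_rfl
  exact key (D.nroots - R.half) R.half (by have := R.n_eq; omega) le_rfl g hPg (this ▸ hg)

end Cfsg.Agent.ChevM
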